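import Cfsg.Agent.Classical.ExtFieldU.RankOne
import Cfsg.Agent.Classical.Unitary.Maximal

/-! The coefficient group of a twisted line and a root group over the base field. -/

set_option autoImplicit false
set_option linter.unusedSectionVars false

namespace Cfsg.Lib.Classical.ExtFieldU

open Module

variable {F L V : Type*} [Field F] [Finite F] [Field L] [Algebra F L] [FiniteDimensional F L]
  [AddCommGroup V] [Module F V] [Module L V] [IsScalarTower F L V] [FiniteDimensional F V]
  {H : HermSpace F V} {HL : HermSpace L V} {K : Subgroup H.SIsom}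

/-- An isometry scaling an isotropic vector by a fixed scalar. -/
theorem exists_scale [Finite L] [FiniteDimensional L V] {x : V} (hx0 : x ≠ 0) (hx : HL.h x x = 0)
    {d : L} (hd : HL.σ d = d) (hd0 : d ≠ 0) : ∃ P : HL.SIsom, P.1.1 x = d • x := by
  obtain ⟨v, hv, hvv⟩ := HL.exists_hyperbolic hx0 hx
  have hvx : HL.h v x = 1 := by rw [HL.symm, hv, map_one]
  have hb : ∀ a : L, a + HL.σ a = 0 → -a⁻¹ + HL.σ (-a⁻¹) = 0 := fun a ha => by
    rw [map_neg, map_inv₀, eq_neg_of_add_eq_zero_right ha, inv_neg, neg_neg, neg_add_cancel]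
  have hw : ∀ (a : L) (ha : a + HL.σ a = 0), a ≠ 0 →
      (HL.sT hx ha * HL.sT hvv (hb a ha) * HL.sT hx ha).1.1 x = (-a⁻¹) • v ∧
      (HL.sT hx ha * HL.sT hvv (hb a ha) * HL.sT hx ha).1.1 v = a • x := by
    intro a ha ha0
    constructor <;>
    · simp only [HermSpace.smul_mul_apply, HermSpace.sT_apply, HL.add_left, HL.smul_left, hx, hv, hvv, hvx]
      match_scalars <;> field_simp <;> ring
  obtain ⟨δ, hδ0, hδ⟩ := HL.conj.exists_skew
  have ha : -(d * δ) + HL.σ (-(d * δ)) = 0 := by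
    rw [map_neg, map_mul, hd, ← neg_add, ← mul_add, hδ, mul_zero, neg_zero]
  refine ⟨HL.sT hx ha * HL.sT hvv (hb _ ha) * HL.sT hx ha * (HL.sT hx hδ * HL.sT hvv (hb _ hδ) * HL.sT hx hδ), ?_⟩
  rw [HL.smul_mul_apply, (hw δ hδ hδ0).1, map_smul, (hw _ ha (neg_ne_zero.mpr (mul_ne_zero hd0 hδ0))).2, smul_smul]
  congr 1
  field_simp

/-- The maps `M` with `z ↦ z + M(G(z,x)) x` in the subgroup. -/
def coeffs (K : Subgroup H.SIsom) (HL : HermSpace L V) {x : V} (hx : HL.h x x = 0) : AddSubgroup (L →ₗ[F] L) where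
  carrier := {M | ∃ k ∈ K, ∀ z, (k : H.SIsom).1.1 z = z + M (HL.h z x) • x}
  zero_mem' := ⟨1, K.one_mem, fun z => by rw [LinearMap.zero_apply, zero_smul, add_zero]; rfl⟩
  add_mem' := by
    rintro M N ⟨h, hh, hM⟩ ⟨k, hk, hN⟩
    refine ⟨h * k, K.mul_mem hh hk, fun z => ?_⟩
    rw [HermSpace.smul_mul_apply, hN, hM, HL.add_left, HL.smul_left, hx, mul_zero, add_zero,
      LinearMap.add_apply, add_smul]
    abel
  neg_mem' := by
    rintro M ⟨h, hh, hM⟩
    refine ⟨h⁻¹, K.inv_mem hh, fun z => ?_⟩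
    have hG : HL.h (z + (-M) (HL.h z x) • x) x = HL.h z x := by
      rw [HL.add_left, HL.smul_left, hx, mul_zero, add_zero]
    have e : h.1.1 (z + (-M) (HL.h z x) • x) = z := by
      rw [hM, hG, LinearMap.neg_apply, neg_smul, neg_add_cancel_right]
    conv_lhs => rw [← e]
    exact H.inv_apply_self h.1 _

/-- `t ↦ tr(s τp t) (s' p)`. -/
noncomputable def bop (HL : HermSpace L V) (p s s' : L) : L →ₗ[F] L :=
  (Algebra.trace F L ∘ₗ LinearMap.mulLeft F (s * HL.σ p)).smulRight (s' * p)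

theorem bop_apply (p s s' t : L) :
    bop (F := F) HL p s s' t = Algebra.trace F L (s * HL.σ p * t) • (s' * p) := rfl

theorem bop_add_left (p s₁ s₂ s' : L) :
    bop (F := F) HL p (s₁ + s₂) s' = bop (F := F) HL p s₁ s' + bop (F := F) HL p s₂ s' :=
  LinearMap.ext fun t => by simp only [bop_apply, LinearMap.add_apply, add_mul, map_add, add_smul]

theorem bop_add_right (p s s₁ s₂ : L) :
    bop (F := F) HL p s (s₁ + s₂) = bop (F := F) HL p s s₁ + bop (F := F) HL p s s₂ :=
  LinearMap.ext fun t => by simp only [bop_apply, LinearMap.add_apply, add_mul, smul_add]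

theorem bop_conj (p s s' d : L) :
    LinearMap.mulLeft F d ∘ₗ bop (F := F) HL p s s' ∘ₗ LinearMap.mulLeft F d = bop (F := F) HL p (s * d) (s' * d) :=
  LinearMap.ext fun t => by
    simp only [LinearMap.comp_apply, bop_apply, LinearMap.mulLeft_apply, mul_smul_comm]
    congr 1
    · congr 1; ring
    · ring

theorem Over.mulLeft_mem (hO : Over H HL K) {x : V} (hx : HL.h x x = 0) {a : L} (ha : a + HL.σ a = 0) :
    LinearMap.mulLeft F a ∈ coeffs K HL hx :=
  ⟨hO.linT hx ha, hO.linT_mem hx ha, fun z => hO.linT_apply hx ha z⟩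

/-- Conjugation by the scalar action on the line. -/
theorem Over.coeffs_conj (hO : Over H HL K) {x : V} (hx0 : x ≠ 0) (hx : HL.h x x = 0) {M : L →ₗ[F] L}
    (hM : M ∈ coeffs K HL hx) {d : L} (hd : HL.σ d = d) :
    LinearMap.mulLeft F d ∘ₗ M ∘ₗ LinearMap.mulLeft F d ∈ coeffs K HL hx := by
  rcases eq_or_ne d 0 with rfl | hd0
  · rw [LinearMap.mulLeft_zero_eq_zero, LinearMap.zero_comp]; exact zero_mem _
  have : Finite L := Module.finite_of_finite F
  have : FiniteDimensional L V := FiniteDimensional.right F L V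
  obtain ⟨P, hP⟩ := exists_scale (HL := HL) hx0 hx hd hd0
  obtain ⟨k, hk, hkz⟩ := hM
  refine ⟨lift hO.trace P * k * (lift hO.trace P)⁻¹,
    K.mul_mem (K.mul_mem (hO.lift_mem P) hk) (K.inv_mem (hO.lift_mem P)), fun z => ?_⟩
  set z' := ((lift hO.trace P)⁻¹).1.1 z
  have hz : P.1.1 z' = z := H.apply_inv_self (lift hO.trace P).1 z
  have hG : HL.h z' x = d * HL.h z x := by
    rw [← HL.map_form P.1, hz, hP, HL.smul_right, hd]
  rw [HermSpace.smul_mul_apply, HermSpace.smul_mul_apply, hkz, lift_apply, map_add, hz, map_smul, hP, hG,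
    smul_smul]
  congr 2
  exact mul_comm _ _

variable {g : H.SIsom} {x : V} {p : L} {κ : F}

/-- The basic relation in the coefficient group. -/
theorem Over.rel (hO : Over H HL K) (R : Rank1 HL K g x p κ) {l : F} (hl : l + H.σ l = 0)
    {s a : L} (hs : HL.σ s = s) (hsU : Algebra.trace F L (s * (HL.σ p * p)) = 0) (ha : HL.σ a = a) :
    l • (bop (F := F) HL p s a + bop (F := F) HL p a s + Algebra.trace F L (a * (HL.σ p * p)) • bop (F := F) HL p s s) ∈
      coeffs K HL R.iso := by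
  have hβ : κ⁻¹ • s + HL.σ (κ⁻¹ • s) = 0 := hO.smul_skew
    (by rw [map_inv₀, eq_neg_of_add_eq_zero_right R.κ_skew, inv_neg, add_neg_cancel]) hs
  set e := s * p with he
  set k := g * hO.linT R.iso hβ * g⁻¹ with hk
  have hkK : k ∈ K := K.mul_mem (K.mul_mem R.mem (hO.linT_mem R.iso hβ)) (K.inv_mem R.mem)
  have hge : g.1.1 (e • x) = e • x := R.fixed e (by rw [he, ← mul_assoc, mul_comm (HL.σ p) s, mul_assoc]; exact hsU)
  have hkc : ∀ c : L, k.1.1 (c • x) = (c + Algebra.trace F L (HL.σ p * c) • e) • x := by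
    intro c
    show g.1.1 ((hO.linT R.iso hβ).1.1 ((g⁻¹).1.1 (c • x))) = _
    have e1 : g.1.1 ((g⁻¹).1.1 (c • x)) = c • x := H.apply_inv_self g.1 _
    rw [Over.linT_apply, map_add, e1, R.phi_eq, add_smul, smul_assoc]
    congr 1
    rw [mul_smul_comm, smul_assoc, map_smul, mul_smul_comm, smul_mul_assoc, smul_smul κ,
      mul_inv_cancel₀ R.κ_ne, one_smul, ← he, hge]
  have hadj : ∀ z, HL.h ((k⁻¹).1.1 z) x =
      HL.h z x + Algebra.trace F L (HL.σ e * HL.h z x) • p := by
    intro z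
    refine eq_of_trace (F := F) fun c => ?_
    have h1 : Algebra.trace F L (c * HL.h ((k⁻¹).1.1 z) x) = H.h ((k⁻¹).1.1 z) (HL.σ c • x) := by
      rw [hO.trace, HL.smul_right, HL.conj.invol]
    rw [h1, h_adj, inv_inv, hkc, hO.trace, HL.smul_right, map_add HL.σ, HL.conj.invol, hO.σ_smul, add_mul,
      map_add, trace_smul_mul, ← hO.trace_τ, map_mul HL.σ, HL.conj.invol, HL.conj.invol, mul_add, map_add,
      mul_smul_comm, map_smul, smul_eq_mul, mul_comm p c, mul_comm (Algebra.trace F L (c * p))]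
  have hla : l • a + HL.σ (l • a) = 0 := hO.smul_skew hl ha
  have hrel : ∀ z, (k * hO.linT R.iso hla * k⁻¹).1.1 z = z +
      (LinearMap.mulLeft F (l • a) + l • (bop (F := F) HL p s a + bop (F := F) HL p a s +
        Algebra.trace F L (a * (HL.σ p * p)) • bop (F := F) HL p s s)) (HL.h z x) • x := by
    intro z
    show k.1.1 ((hO.linT R.iso hla).1.1 ((k⁻¹).1.1 z)) = _
    have e1 : k.1.1 ((k⁻¹).1.1 z) = z := H.apply_inv_self k.1 _
    rw [Over.linT_apply, map_add, e1, hkc, hadj]
    congr 2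
    set t := HL.h z x
    set T := Algebra.trace F L (HL.σ e * t) with hT
    have hT' : T = Algebra.trace F L (s * HL.σ p * t) := by rw [hT, he, map_mul HL.σ, hs]
    have e2 : Algebra.trace F L (HL.σ p * (l • a * (t + T • p))) =
        l * Algebra.trace F L (a * HL.σ p * t) + l * T * Algebra.trace F L (a * (HL.σ p * p)) := by
      have e3 : HL.σ p * (l • a * (t + T • p)) = l • (a * HL.σ p * t) + (l * T) • (a * (HL.σ p * p)) := by
        simp only [Algebra.smul_def, map_mul]
        ring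
      rw [e3, map_add, map_smul, map_smul, smul_eq_mul, smul_eq_mul]
    rw [e2]
    simp only [LinearMap.add_apply, LinearMap.mulLeft_apply, LinearMap.smul_apply, bop_apply, ← hT', smul_smul,
      smul_add, mul_add, add_smul, mul_smul_comm, smul_mul_assoc, he]
    module
  have h1 : LinearMap.mulLeft F (l • a) + l • (bop (F := F) HL p s a + bop (F := F) HL p a s +
      Algebra.trace F L (a * (HL.σ p * p)) • bop (F := F) HL p s s) ∈ coeffs K HL R.iso :=
    ⟨_, K.mul_mem (K.mul_mem hkK (hO.linT_mem R.iso hla)) (K.inv_mem hkK), hrel⟩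
  have h2 := (coeffs K HL R.iso).sub_mem h1 (hO.mulLeft_mem R.iso hla)
  rwa [add_sub_cancel_left] at h2

/-- Some isotropic line over `L` contains a root group over `F` in the subgroup. -/
theorem Over.exists_centre (hO : Over H HL K) :
    ∃ x : V, x ≠ 0 ∧ HL.h x x = 0 ∧ x ∈ H.uCentres K := by
  classical
  obtain ⟨g, x, p, κ, R⟩ := hO.exists_rank1
  have : Finite L := Module.finite_of_finite F
  obtain ⟨l, hl0, hl⟩ := H.conj.exists_skew
  set n := HL.σ p * p with hn
  have hn0 : n ≠ 0 := mul_ne_zero ((map_ne_zero _).mpr R.p_ne) R.p_ne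
  have hnf : HL.σ n = n := by rw [hn, map_mul, HL.conj.invol, mul_comm]
  have htrf : ∀ s, HL.σ s = s → H.σ (Algebra.trace F L (s * n)) = Algebra.trace F L (s * n) := fun s hs => by
    rw [← hO.trace_τ, map_mul, hs, hnf]
  obtain ⟨a₁, ha₁, ha₁1⟩ : ∃ a, HL.σ a = a ∧ Algebra.trace F L (a * n) = 1 := by
    obtain ⟨s, hs, hs0⟩ : ∃ s, HL.σ s = s ∧ Algebra.trace F L (s * n) ≠ 0 := by
      by_contra! h
      exact hn0 (hO.eq_zero_of_fixed h)
    exact ⟨(Algebra.trace F L (s * n))⁻¹ • s, by rw [hO.σ_smul, hs, map_inv₀, htrf s hs],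
      by rw [trace_smul_mul, inv_mul_cancel₀ hs0]⟩
  set C := coeffs K HL R.iso
  let sym : L → L → (L →ₗ[F] L) := fun s s' => l • (bop (F := F) HL p s s' + bop (F := F) HL p s' s)
  have hsymU : ∀ s s', HL.σ s = s → HL.σ s' = s' → Algebra.trace F L (s * n) = 0 →
      Algebra.trace F L (s' * n) = 0 → sym s s' ∈ C := by
    intro s s' hs hs' hu hu'
    have h1 := hO.rel R hl hs hu ha₁
    have h2 := hO.rel R hl hs' hu' ha₁
    have h3 := hO.rel R hl (s := s + s') (by rw [map_add, hs, hs']) (by rw [add_mul, map_add, hu, hu', add_zero]) ha₁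
    rw [← hn, ha₁1, one_smul] at h1 h2 h3
    convert C.sub_mem (C.sub_mem h3 h1) h2 using 1
    simp only [sym, bop_add_left, bop_add_right]
    module
  have hratio : ∀ ρ, HL.σ ρ = ρ → ∃ u, HL.σ u = u ∧ u ≠ 0 ∧ Algebra.trace F L (u * n) = 0 ∧
      Algebra.trace F L (ρ * u * n) = 0 := by
    intro ρ hρ
    let f : fixedField HL.σ → fixedField H.σ × fixedField H.σ := fun s =>
      (⟨Algebra.trace F L ((s : L) * n), mem_fixedField.mpr (htrf _ (mem_fixedField.mp s.2))⟩,
        ⟨Algebra.trace F L (ρ * (s : L) * n), mem_fixedField.mpr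
          (htrf _ (by rw [map_mul, hρ, mem_fixedField.mp s.2]))⟩)
    have hlt : Nat.card (fixedField H.σ × fixedField H.σ) < Nat.card (fixedField HL.σ) := by
      rw [Nat.card_prod]
      show H.q * H.q < HL.q
      rw [hO.HL_q, ← pow_two]
      exact Nat.pow_lt_pow_right H.two_le_q
        (lt_of_le_of_ne hO.prime.two_le fun h => absurd (h ▸ hO.odd) (by decide))
    obtain ⟨s, s', hne, hss⟩ : ∃ s s', s ≠ s' ∧ f s = f s' := by
      by_contra! h
      exact absurd (Nat.card_le_card_of_injective f fun a b hab => by_contra fun hne => h a b hne hab) (not_le.mpr hlt)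
    have e1 := congrArg (fun y => ((y.1 : fixedField H.σ) : F)) hss
    have e2 := congrArg (fun y => ((y.2 : fixedField H.σ) : F)) hss
    simp only [f] at e1 e2
    refine ⟨(s : L) - s', by rw [map_sub, mem_fixedField.mp s.2, mem_fixedField.mp s'.2],
      sub_ne_zero.mpr fun e => hne (Subtype.ext e), by rw [sub_mul, map_sub, e1, sub_self], ?_⟩
    rw [mul_sub, sub_mul, map_sub, e2, sub_self]
  have hsym : ∀ s s', HL.σ s = s → HL.σ s' = s' → sym s s' ∈ C := by
    intro s s' hs hs'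
    rcases eq_or_ne s 0 with rfl | hs0
    · have : sym 0 s' = 0 := LinearMap.ext fun t => by simp [sym, bop_apply]
      rw [this]; exact C.zero_mem
    obtain ⟨u, hu, hu0, hu1, hu2⟩ := hratio (s' / s) (by rw [map_div₀, hs, hs'])
    have h1 := hsymU u (s' / s * u) hu (by rw [map_mul, map_div₀, hs, hs', hu]) hu1 hu2
    have h2 := hO.coeffs_conj R.x_ne R.iso h1 (d := s / u) (by rw [map_div₀, hs, hu])
    convert h2 using 1
    simp only [sym, LinearMap.smul_comp, LinearMap.comp_smul, LinearMap.add_comp, LinearMap.comp_add, bop_conj]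
    congr 3 <;> field_simp
  obtain ⟨s, hs, hs0, hsU, -⟩ := hratio 1 (map_one _)
  have hx' : HL.h ((s * p) • x) ((s * p) • x) = 0 := by
    rw [HL.smul_left, HL.smul_right, R.iso, mul_zero, mul_zero]
  have hxx : H.h ((s * p) • x) ((s * p) • x) = 0 := by rw [hO.trace, hx', map_zero]
  refine ⟨(s * p) • x, smul_ne_zero (mul_ne_zero hs0 R.p_ne) R.x_ne, hx', hxx, fun c hc => ?_⟩
  set f := c / l with hf
  have hff : H.σ f = f := by
    rw [hf, map_div₀, eq_neg_of_add_eq_zero_right hc, eq_neg_of_add_eq_zero_right hl, neg_div_neg_eq]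
  have ha : HL.σ (f • a₁) = f • a₁ := by rw [hO.σ_smul, hff, ha₁]
  have h1 := C.sub_mem (hO.rel R hl hs hsU ha) (hsym s (f • a₁) hs ha)
  obtain ⟨k, hk, hkz⟩ := h1
  convert hk using 1
  refine H.sisom_ext fun z => ?_
  show (H.uT hxx hc).1 z = _
  rw [HermSpace.uT_apply, hkz, hO.trace, HL.smul_right, map_mul HL.σ, hs]
  simp only [sym, ← hn, trace_smul_mul, ha₁1, mul_one, LinearMap.sub_apply, LinearMap.smul_apply,
    LinearMap.add_apply, bop_apply, smul_add, smul_smul, add_sub_cancel_left]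
  rw [smul_assoc, hf, mul_div_cancel₀ c hl0]

end Cfsg.Lib.Classical.ExtFieldU
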