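import Cfsg.Agent.Classical.ExtFieldU.Main
import Cfsg.Agent.Classical.Unitary.MaxMatrix
import Cfsg.Agent.Classical.ExtField.Extras

/-! Normalisers of field extensions closed under adjoints, in special unitary groups. -/

set_option autoImplicit false
set_option linter.unusedSectionVars false

namespace Cfsg.Lib.Classical.ExtFieldU

open Module Matrix

/-- A form over `L` with trace `h`, from an involution of `L` giving the adjoints. -/
theorem exists_trace_herm {F L V : Type*} [Field F] [Finite F] [Field L] [Algebra F L] [FiniteDimensional F L]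
    [AddCommGroup V] [Module F V] [Module L V] [IsScalarTower F L V] [FiniteDimensional F V] [Nontrivial V]
    (H : HermSpace F V) (τ : L →+* L) (hadj : ∀ (c : L) (u v : V), H.h (c • u) v = H.h u (τ c • v)) :
    ∃ HL : HermSpace L V, HL.σ = τ ∧ (∀ a, τ (algebraMap F L a) = algebraMap F L (H.σ a)) ∧
      ∀ u v, H.h u v = Algebra.trace F L (HL.h u v) := by
  have huniq : ∀ c c' : L, (∀ u v, H.h u (c • v) = H.h u (c' • v)) → c = c' := fun c c' h => by
    obtain ⟨v, hv⟩ := exists_ne (0 : V)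
    exact smul_left_injective L hv (H.ext_of_forall fun u => h u v)
  have halg : ∀ a, τ (algebraMap F L a) = algebraMap F L (H.σ a) := fun a => huniq _ _ fun u v => by
    rw [← hadj, algebraMap_smul, algebraMap_smul, H.smul_left, H.smul_right, H.conj.invol]
  have hinv : ∀ c, τ (τ c) = c := fun c => huniq _ _ fun u v => by
    rw [← hadj, H.symm, ← hadj, ← H.symm]
  let D := (Algebra.traceForm F L).toDual (traceForm_nondegenerate F L)
  let Φ : V → V → L := fun u v =>
    D.symm ((H.lin v).comp ((LinearMap.toSpanSingleton L V u).restrictScalars F))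
  have hΦ : ∀ u v (c : L), Algebra.trace F L (c * Φ u v) = H.h (c • u) v := fun u v c => by
    rw [mul_comm, ← Algebra.traceForm_apply, LinearMap.BilinForm.apply_toDual_symm_apply]
    rfl
  have htr : ∀ u v, H.h u v = Algebra.trace F L (Φ u v) := fun u v => by
    have h := hΦ u v 1
    rw [one_mul, one_smul] at h
    exact h.symm
  let HL : HermSpace L V :=
    { σ := τ
      h := Φ
      conj := ⟨hinv, by
        obtain ⟨a, ha⟩ := H.conj.ne_id
        exact ⟨algebraMap F L a, fun e => ha ((algebraMap F L).injective ((halg a).symm.trans e))⟩⟩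
      add_left := fun u₁ u₂ v => eq_of_trace (F := F) fun c => by
        rw [mul_add, map_add, hΦ, hΦ, hΦ, smul_add, H.add_left]
      smul_left := fun s u v => eq_of_trace (F := F) fun c => by
        rw [hΦ, ← mul_assoc, hΦ, ← smul_smul]
      symm := fun u v => eq_of_trace (F := F) fun c => by
        rw [hΦ]
        conv_rhs => rw [← hinv c]
        rw [← map_mul, trace_conj H.conj.invol hinv halg, hΦ, ← H.symm, hadj]
      nondeg := fun v hv => H.nondeg v fun x => by rw [htr, hv, map_zero] }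
  exact ⟨HL, rfl, halg, htr⟩

universe u w

theorem maximal_of_field {F : Type u} [Field F] [Fintype F] {q n : ℕ} (hF : Fintype.card F = q ^ 2)
    {K : Subalgebra F (Matrix (Fin n) (Fin n) F)} {L : Type w} [Field L] [Algebra F L]
    [Module L (Fin n → F)] (hfd : FiniteDimensional F L) (hT : IsScalarTower F L (Fin n → F))
    (ι : L → Matrix (Fin n) (Fin n) F) (hι : ∀ (a : L) (z : Fin n → F), a • z = ι a *ᵥ z)
    (hmemι : ∀ a, ι a ∈ K) (hsurj : ∀ k ∈ K, ∃ a, ι a = k) (hr : (finrank F L).Prime)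
    (hodd : Odd (finrank F L)) (hn : (n = 2 * finrank F L ∧ (5 ≤ finrank F L ∨ (3 ≤ finrank F L ∧ 3 ≤ q))) ∨ 4 * finrank F L ≤ n)
    (hac : Cfsg.Geo.IsAdjointClosedFor (Cfsg.hermForm n F q) K) :
    Cfsg.Geo.IsMaximalIn (Cfsg.GU n F q ⊓ Cfsg.Geo.specialLinear (Fin n) F)
      (Cfsg.Geo.subalgebraNormalizer K ⊓ (Cfsg.GU n F q ⊓ Cfsg.Geo.specialLinear (Fin n) F)) := by
  classical
  have hr2 := hr.two_le
  have hn0 : 0 < n := by rcases hn with ⟨h, -⟩ | h <;> omega
  have : Nontrivial (Fin n → F) := Module.nontrivial_of_finrank_pos (R := F) (by rw [finrank_fin_fun]; exact hn0)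
  set H := stdHerm n hF with hH
  -- the adjoint involution
  have huniq : ∀ c c' : L, (∀ u v, H.h u (c • v) = H.h u (c' • v)) → c = c' := fun c c' h => by
    obtain ⟨v, hv⟩ := exists_ne (0 : Fin n → F)
    exact smul_left_injective L hv (H.ext_of_forall fun u => h u v)
  have hex : ∀ c : L, ∃ d : L, ∀ u v, H.h (c • u) v = H.h u (d • v) := fun c => by
    obtain ⟨k', hk', hkuv⟩ := hac _ (hmemι c)
    obtain ⟨d, rfl⟩ := hsurj k' hk'
    exact ⟨d, fun u v => by rw [hι, hι, hH, stdHerm_h, stdHerm_h]; exact hkuv u v⟩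
  choose f hf using hex
  let τ : L →+* L :=
    { toFun := f
      map_one' := huniq _ _ fun u v => by rw [← hf, one_smul, one_smul]
      map_mul' := fun a b => huniq _ _ fun u v => by rw [← hf, mul_comm a b, mul_smul, hf, hf, smul_smul]
      map_zero' := huniq _ _ fun u v => by rw [← hf, zero_smul, zero_smul, H.zero_left, H.zero_right]
      map_add' := fun a b => huniq _ _ fun u v => by rw [← hf, add_smul, H.add_left, hf, hf, ← H.add_right, add_smul] }
  obtain ⟨HL, hσ, halg, htr⟩ := exists_trace_herm H τ hf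
  have hrank : (finrank L (Fin n → F) = 2 ∧ (5 ≤ finrank F L ∨ (3 ≤ finrank F L ∧ 3 ≤ H.q))) ∨ 4 ≤ finrank L (Fin n → F) := by
    have h := finrank_mul_finrank F L (Fin n → F)
    rw [finrank_fin_fun] at h
    rcases hn with ⟨h1, h2⟩ | h1
    · left
      refine ⟨?_, h2.imp_right fun h => ⟨h.1, by rw [hH, show (stdHerm n hF).q = q from stdHerm_q hF]; exact h.2⟩⟩
      nlinarith
    · right
      nlinarith
  refine isMaximalIn_of_isCoatom_comap (sunitToGL hF) (range_sunitToGL hF) ?_
  have hconj : ∀ g : H.SIsom, Semi L g.1.1 → ∀ k ∈ K,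
      ((sunitToGL hF g : GL (Fin n) F) : Matrix (Fin n) (Fin n) F) * k *
        (((sunitToGL hF g)⁻¹ : GL (Fin n) F) : Matrix (Fin n) (Fin n) F) ∈ K := by
    intro g hg k hk
    obtain ⟨a, rfl⟩ := hsurj k hk
    obtain ⟨b, hb⟩ := hg a
    have h : ((sunitToGL hF g : GL (Fin n) F) : Matrix (Fin n) (Fin n) F) * ι a =
        ι b * (sunitToGL hF g : GL (Fin n) F) := by
      refine Matrix.toLin'.injective (LinearMap.ext fun z => ?_)
      have := hb z
      rw [hι, hι, ← sunitToGL_mulVec hF g, ← sunitToGL_mulVec hF g z, mulVec_mulVec, mulVec_mulVec] at this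
      simpa using this
    rw [h, mul_assoc, ← Units.val_mul, mul_inv_cancel, Units.val_one, mul_one]
    exact hmemι b
  have hsemi : ∀ g : H.SIsom, g ∈ (Cfsg.Geo.subalgebraNormalizer K).comap (sunitToGL hF) ↔ Semi L g.1.1 := by
    intro g
    constructor
    · intro hg a
      obtain ⟨b, hb⟩ := hsurj _ ((hg (ι a)).mp (hmemι a))
      refine ⟨b, fun z => ?_⟩
      rw [hι, hι, hb, ← sunitToGL_mulVec hF g, ← sunitToGL_mulVec hF g z, mulVec_mulVec, mulVec_mulVec,
        mul_assoc _ _ ((sunitToGL hF g : GL (Fin n) F) : Matrix (Fin n) (Fin n) F),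
        ← Units.val_mul, inv_mul_cancel, Units.val_one, mul_one]
    · intro hg k
      refine ⟨hconj g hg k, fun h => ?_⟩
      have h' := hconj g⁻¹ (ExtField.Semi.inv hg) _ h
      rw [map_inv, inv_inv] at h'
      simpa [← mul_assoc, mul_assoc _ _ ((sunitToGL hF g : GL (Fin n) F) : Matrix (Fin n) (Fin n) F),
        ← Units.val_mul] using h'
  refine isCoatom_of_forall ?_ fun K' hK' g hg hgn => ?_
  · have : FiniteDimensional L (Fin n → F) := FiniteDimensional.right F L (Fin n → F)
    have : Finite L := Module.finite_of_finite F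
    obtain ⟨x, hx0, hx⟩ := HL.exists_isotropic_of_two_le (by rcases hrank with ⟨h, -⟩ | h <;> omega)
    obtain ⟨g, hg⟩ := exists_sisom_not_semi (H := H) hr2 htr hx0 hx
    exact fun e => hg ((hsemi g).mp (e ▸ Subgroup.mem_top g))
  · exact Over.eq_top (HL := HL) ⟨hr, hodd, fun a => by rw [hσ]; exact halg a, htr, fun x hx => hK' ((hsemi x).mpr hx),
      ⟨g, hg, fun h => hgn ((hsemi g).mpr h)⟩, hrank⟩

/-- The normaliser of an adjoint-closed subfield of odd prime degree is maximal in `SU_n(q)`. -/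
theorem isMaximalIn_extField_su {F : Type u} [Field F] [Fintype F] {q n : ℕ} (hF : Fintype.card F = q ^ 2)
    {r : ℕ} (hr : r.Prime) (hodd : Odd r) (hn : (n = 2 * r ∧ (5 ≤ r ∨ (3 ≤ r ∧ 3 ≤ q))) ∨ 4 * r ≤ n)
    (K : Subalgebra F (Matrix (Fin n) (Fin n) F)) (hK : Cfsg.Geo.IsFieldSubalgebra r K)
    (hac : Cfsg.Geo.IsAdjointClosedFor (Cfsg.hermForm n F q) K) :
    Cfsg.Geo.IsMaximalIn (Cfsg.GU n F q ⊓ Cfsg.Geo.specialLinear (Fin n) F)
      (Cfsg.Geo.subalgebraNormalizer K ⊓ (Cfsg.GU n F q ⊓ Cfsg.Geo.specialLinear (Fin n) F)) := by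
  classical
  have hn0 : 0 < n := by rcases hn with ⟨h, h5⟩ | h <;> have := hr.two_le <;> omega
  have hfield : IsField K :=
    ⟨⟨0, 1, fun h => by
      have h' := congrFun (congrFun (congrArg Subtype.val h) ⟨0, hn0⟩) ⟨0, hn0⟩
      simp at h'⟩, fun a b => Subtype.ext (hK.comm a a.2 b b.2), fun {a} ha => by
      obtain ⟨b, hb, hab⟩ := hK.inv a a.2 (fun h => ha (Subtype.ext h))
      exact ⟨⟨b, hb⟩, Subtype.ext hab⟩⟩
  let : Field K := hfield.toField
  let : Module K (Fin n → F) :=
    Module.compHom (Fin n → F) ((Matrix.toLinAlgEquiv'.toAlgHom.comp K.val).toRingHom)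
  have hsmul : ∀ (k : K) (z : Fin n → F), k • z = (k : Matrix (Fin n) (Fin n) F) *ᵥ z := fun k z => rfl
  have hT : IsScalarTower F K (Fin n → F) :=
    ⟨fun l k z => by rw [hsmul, hsmul, SetLike.val_smul, smul_mulVec]⟩
  have hrk : finrank F K = r := hK.finrank_eq
  have hfd : FiniteDimensional F K := .of_finrank_pos (by rw [hrk]; exact hr.pos)
  exact maximal_of_field (L := K) hF hfd hT (fun k => (k : Matrix (Fin n) (Fin n) F)) hsmul
    (fun k => k.2) (fun k hk => ⟨⟨k, hk⟩, rfl⟩) (hrk ▸ hr) (hrk ▸ hodd) (hrk ▸ hn) hac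

end Cfsg.Lib.Classical.ExtFieldU
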