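import Cfsg.Agent.Classical.ExtFieldU.Setting

/-! A subgroup that is not semilinear twists some isotropic line. -/

set_option autoImplicit false
set_option linter.unusedSectionVars false

namespace Cfsg.Lib.Classical.ExtFieldU

open Module

/-- A quadratic map into a subspace of less than half the dimension has a nontrivial zero. -/
theorem exists_ne_zero_quadratic {p : ℕ} [Fact p.Prime] {W : Type*} [AddCommGroup W] [Module (ZMod p) W]
    [FiniteDimensional (ZMod p) W] (B : W →ₗ[ZMod p] W →ₗ[ZMod p] W) (T : Submodule (ZMod p) W)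
    (hT : ∀ w, B w w ∈ T) (hlt : 2 * finrank (ZMod p) T < finrank (ZMod p) W) :
    ∃ w, w ≠ 0 ∧ B w w = 0 := by
  classical
  let bW := Module.finBasis (ZMod p) W
  let bT := Module.finBasis (ZMod p) T
  obtain ⟨π, hπ⟩ := T.subtype.exists_leftInverse_of_injective T.ker_subtype
  let cf : Fin (finrank (ZMod p) T) → Fin (finrank (ZMod p) W) → Fin (finrank (ZMod p) W) → ZMod p :=
    fun j i k => bT.repr (π (B (bW i) (bW k))) j
  let P : Fin (finrank (ZMod p) T) → MvPolynomial (Fin (finrank (ZMod p) W)) (ZMod p) := fun j =>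
    ∑ i, ∑ k, MvPolynomial.C (cf j i k) * MvPolynomial.X i * MvPolynomial.X k
  have hdeg : ∀ j, (P j).totalDegree ≤ 2 := fun j => by
    refine MvPolynomial.totalDegree_finsetSum_le fun i _ => ?_
    refine MvPolynomial.totalDegree_finsetSum_le fun k _ => ?_
    refine le_trans (MvPolynomial.totalDegree_mul _ _) ?_
    refine le_trans (add_le_add (MvPolynomial.totalDegree_mul _ _) le_rfl) ?_
    rw [MvPolynomial.totalDegree_C, MvPolynomial.totalDegree_X, MvPolynomial.totalDegree_X]
  have hsum : (∑ j, (P j).totalDegree) < Fintype.card (Fin (finrank (ZMod p) W)) := by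
    refine lt_of_le_of_lt (Finset.sum_le_sum fun j _ => hdeg j) ?_
    rw [Finset.sum_const, Finset.card_univ, Fintype.card_fin, Fintype.card_fin, smul_eq_mul, mul_comm]
    exact hlt
  have hdvd := char_dvd_card_solutions_of_fintype_sum_lt p hsum
  have hev : ∀ x j, MvPolynomial.eval x (P j) = bT.repr (π (B (bW.equivFun.symm x) (bW.equivFun.symm x))) j := by
    intro x j
    simp only [P, cf, Module.Basis.equivFun_symm_apply, map_sum, LinearMap.sum_apply, map_smul, LinearMap.smul_apply,
      Finsupp.finset_sum_apply, Finsupp.smul_apply, smul_eq_mul, map_mul, MvPolynomial.eval_C, MvPolynomial.eval_X,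
      Finset.mul_sum]
    rw [Finset.sum_comm]
    exact Finset.sum_congr rfl fun i _ => Finset.sum_congr rfl fun k _ => by ring
  have h0 : ∀ j, MvPolynomial.eval 0 (P j) = 0 := fun j => by
    rw [hev, map_zero, LinearMap.map_zero₂, map_zero, map_zero, Finsupp.zero_apply]
  have hpos : 0 < Fintype.card {x : Fin (finrank (ZMod p) W) → ZMod p // ∀ j, MvPolynomial.eval x (P j) = 0} :=
    Fintype.card_pos_iff.mpr ⟨⟨0, h0⟩⟩
  have h2 := Nat.le_of_dvd hpos (by convert hdvd)
  obtain ⟨⟨x, hx⟩, hne⟩ := Fintype.exists_ne_of_one_lt_card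
    (lt_of_lt_of_le (Fact.out : p.Prime).one_lt h2)
    (⟨0, h0⟩ : {x : Fin (finrank (ZMod p) W) → ZMod p // ∀ j, MvPolynomial.eval x (P j) = 0})
  refine ⟨bW.equivFun.symm x, fun h => hne (Subtype.ext (bW.equivFun.symm.map_eq_zero_iff.mp h)), ?_⟩
  set w := bW.equivFun.symm x
  have h3 : π (B w w) = 0 := bT.repr.map_eq_zero_iff.mp (Finsupp.ext fun j => (hev x j).symm.trans (hx j))
  have h4 : π (T.subtype ⟨B w w, hT w⟩) = ⟨B w w, hT w⟩ := LinearMap.congr_fun hπ _
  rw [show T.subtype ⟨B w w, hT w⟩ = B w w from rfl, h3] at h4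
  exact (congrArg Subtype.val h4).symm

variable {F L V : Type*} [Field F] [Finite F] [Field L] [Algebra F L] [FiniteDimensional F L]
  [AddCommGroup V] [Module F V] [Module L V] [IsScalarTower F L V] [FiniteDimensional F V]
  {H : HermSpace F V} {HL : HermSpace L V} {K : Subgroup H.SIsom}

/-- Some vector of an isotropic line has an isotropic image. -/
theorem Over.exists_iso_image (hO : Over H HL K) (g : H.SIsom) {u : V} (hu : HL.h u u = 0) :
    ∃ b : L, b ≠ 0 ∧ HL.h (g.1.1 (b • u)) (g.1.1 (b • u)) = 0 := by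
  classical
  have : Finite L := Module.finite_of_finite F
  have hp : Fact (ringChar L).Prime := ⟨CharP.char_is_prime L (ringChar L)⟩
  let : Algebra (ZMod (ringChar L)) L := ZMod.algebra L (ringChar L)
  have : FiniteDimensional (ZMod (ringChar L)) L := Module.Finite.of_finite
  let f : L →+ V := g.1.1.toLinearMap.toAddMonoidHom.comp (LinearMap.toSpanSingleton L V u).toAddMonoidHom
  have hf : ∀ b, f b = g.1.1 (b • u) := fun b => rfl
  let inner : L → L →ₗ[ZMod (ringChar L)] L := fun b =>
    AddMonoidHom.toZModLinearMap (ringChar L)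
      { toFun := fun b' => HL.h (f b) (f b')
        map_zero' := by rw [map_zero, HL.zero_right]
        map_add' := fun x y => by rw [map_add, HL.add_right] }
  let B : L →ₗ[ZMod (ringChar L)] L →ₗ[ZMod (ringChar L)] L := AddMonoidHom.toZModLinearMap (ringChar L)
    { toFun := inner
      map_zero' := LinearMap.ext fun b' => by
        show HL.h (f 0) (f b') = 0
        rw [map_zero, HL.zero_left]
      map_add' := fun x y => LinearMap.ext fun b' => by
        show HL.h (f (x + y)) (f b') = HL.h (f x) (f b') + HL.h (f y) (f b')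
        rw [map_add, HL.add_left] }
  have hB : ∀ b, B b b = HL.h (g.1.1 (b • u)) (g.1.1 (b • u)) := fun b => rfl
  let T₀ : AddSubgroup L :=
    { carrier := {t | HL.σ t = t ∧ Algebra.trace F L t = 0}
      zero_mem' := ⟨map_zero _, map_zero _⟩
      add_mem' := fun {a b} ha hb => ⟨by rw [map_add, ha.1, hb.1], by rw [map_add, ha.2, hb.2, add_zero]⟩
      neg_mem' := fun {a} ha => ⟨by rw [map_neg, ha.1], by rw [map_neg, ha.2, neg_zero]⟩ }
  obtain ⟨w, hw⟩ := H.conj.ne_id
  have hcard : Nat.card T₀ * Nat.card T₀ < Nat.card L := by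
    haveI := Fintype.ofFinite L
    haveI := Fintype.ofFinite T₀
    let j : T₀ × T₀ → L := fun st => (st.1 : L) + w • (st.2 : L)
    have hj : Function.Injective j := by
      rintro ⟨⟨s, hs⟩, ⟨t, ht⟩⟩ ⟨⟨s', hs'⟩, ⟨t', ht'⟩⟩ h
      have h1 : s + w • t = s' + w • t' := h
      have h2 := congrArg HL.σ h1
      rw [map_add, map_add, hO.σ_smul, hO.σ_smul, hs.1, ht.1, hs'.1, ht'.1] at h2
      have h3 : (w - H.σ w) • (t - t') = 0 := by
        rw [sub_smul, smul_sub, smul_sub]
        linear_combination h1 - h2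
      rw [smul_eq_zero, sub_eq_zero, sub_eq_zero] at h3
      obtain rfl := h3.resolve_left (fun e => hw e.symm)
      obtain rfl : s = s' := add_right_cancel h1
      rfl
    obtain ⟨z, hz⟩ := Algebra.trace_surjective F L (1 : F)
    have hzj : z ∉ Set.range j := by
      rintro ⟨⟨⟨s, hs⟩, ⟨t, ht⟩⟩, h⟩
      rw [← h, map_add, map_smul, hs.2, ht.2, smul_zero, add_zero] at hz
      exact zero_ne_one hz
    have := Fintype.card_lt_of_injective_of_notMem j hj hzj
    rwa [Fintype.card_prod, ← Nat.card_eq_fintype_card, ← Nat.card_eq_fintype_card] at this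
  let T := AddSubgroup.toZModSubmodule (ringChar L) T₀
  have hlt : 2 * finrank (ZMod (ringChar L)) T < finrank (ZMod (ringChar L)) L := by
    have h1 : Nat.card T₀ = ringChar L ^ finrank (ZMod (ringChar L)) T := by
      have h := Module.natCard_eq_pow_finrank (K := ZMod (ringChar L)) (V := T)
      rwa [Nat.card_zmod] at h
    rw [h1, Module.natCard_eq_pow_finrank (K := ZMod (ringChar L)) (V := L), Nat.card_zmod, ← pow_add,
      ← two_mul] at hcard
    exact (Nat.pow_lt_pow_iff_right hp.out.one_lt).mp hcard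
  obtain ⟨b, hb, hb0⟩ := exists_ne_zero_quadratic B T (fun b => by
    rw [hB]
    refine ⟨HL.self_fixed _, ?_⟩
    rw [← hO.trace, H.map_form, hO.trace, HL.smul_left, HL.smul_right, hu, mul_zero, mul_zero, map_zero]) hlt
  exact ⟨b, hb, by rwa [hB] at hb0⟩

/-- Some isotropic pair has a nonzero twist. -/
theorem Over.exists_phi_ne (hO : Over H HL K) :
    ∃ g ∈ K, ∃ u, HL.h u u = 0 ∧ HL.h (g.1.1 u) (g.1.1 u) = 0 ∧ phi HL g u ≠ 0 := by
  classical
  have : Finite L := Module.finite_of_finite F
  have : FiniteDimensional L V := FiniteDimensional.right F L V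
  have hd := hO.two_le
  by_contra hall
  push Not at hall
  have hE : ∀ g ∈ K, ∀ u, HL.h u u = 0 → HL.h (g.1.1 u) (g.1.1 u) = 0 →
      ∀ a, HL.h (g.1.1 (a • u)) (g.1.1 u) = 0 := fun g hg u hu hgu a => by
    rw [← Emap_apply]
    refine eq_of_trace (F := F) fun c => ?_
    rw [mul_zero, map_zero, ← HL.conj.invol c, hO.trace_E, hall g hg u hu hgu, LinearMap.zero_apply, map_zero,
      mul_zero, map_zero]
  have hlines : ∀ g ∈ K, ∀ u, u ≠ 0 → HL.h u u = 0 →
      HL.h (g.1.1 u) (g.1.1 u) = 0 ∧ ∀ a : L, ∃ c : L, g.1.1 (a • u) = c • g.1.1 u := by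
    intro g hg u hu0 hu
    obtain ⟨b, hb, hbx⟩ := hO.exists_iso_image g hu
    have hbu : HL.h (b • u) (b • u) = 0 := by rw [HL.smul_left, HL.smul_right, hu, mul_zero, mul_zero]
    set x := g.1.1 (b • u) with hx
    have hx0 : x ≠ 0 := fun h => smul_ne_zero hb hu0 (g.1.1.map_eq_zero_iff.mp h)
    have hspan : ∀ s : L, g.1.1 (s • b • u) ∈ L ∙ x := by
      intro s
      set y := g.1.1 (s • b • u) with hy
      have hyx : y ∈ HL.orth (L ∙ x) := HL.mem_orth_span.mpr fun z hz => by
        rw [Set.mem_singleton_iff.mp hz]; exact hE g hg _ hbu hbx s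
      have hxx : L ∙ x ≤ HL.orth (L ∙ x) := (Submodule.span_singleton_le_iff_mem _ _).mpr
        (HL.mem_orth_span.mpr fun z hz => by rw [Set.mem_singleton_iff.mp hz]; exact hbx)
      rcases hO.rank with ⟨h2, -⟩ | h4
      · have he := Submodule.eq_of_le_of_finrank_eq hxx
          (by rw [HL.finrank_orth, finrank_span_singleton hx0, h2])
        rw [← he] at hyx
        exact hyx
      · have hortho : ∀ d, HL.h d d = 0 → HL.h d x = 0 → HL.h y d = 0 := by
          intro d hd hdx
          have hxd := HL.eq_zero_symm hdx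
          suffices HL.h y d * HL.σ (HL.h y d) = 0 by
            rw [mul_eq_zero, HL.conj.eq_zero, or_self] at this; exact this
          refine hO.eq_zero_of_skew fun a ha => ?_
          set R := hO.linT hd ha with hR
          set k := g⁻¹ * R * g with hk
          have hkK : k ∈ K := K.mul_mem (K.mul_mem (K.inv_mem hg) (hO.linT_mem hd ha)) hg
          have hku : k.1.1 (b • u) = b • u := by
            show (g⁻¹).1.1 (R.1.1 x) = b • u
            rw [hR, Over.linT_apply, hxd, mul_zero, zero_smul, add_zero]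
            exact H.inv_apply_self g.1 _
          have h0 := hE k hkK _ hbu (by rw [hku]; exact hbu) s
          rw [hku] at h0
          have h1 : H.h (k.1.1 (s • b • u)) (s • b • u) = 0 := by
            rw [hO.trace, HL.smul_right, h0, mul_zero, map_zero]
          rw [← H.map_form g.1] at h1
          have h2 : H.h (R.1.1 y) y = 0 := by
            refine Eq.trans ?_ h1
            exact congrArg (fun z => H.h z y) (H.apply_inv_self g.1 _).symm
          have hyy : H.h y y = 0 := by
            rw [hy, H.map_form, hO.trace, HL.smul_left, HL.smul_right, hbu, mul_zero, mul_zero, map_zero]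
          rw [hR, Over.linT_apply, H.add_left, hyy, zero_add, hO.trace, HL.smul_left, HL.symm d y, mul_assoc] at h2
          exact h2
        have hy2 : y ∈ HL.orth (HL.orth (L ∙ x)) := by
          intro z hz
          have hz' := HL.orth_le_span_isotropic h4 hx0 hbx hz
          induction hz' using Submodule.span_induction with
          | mem d hd => exact hortho d hd.1 hd.2
          | zero => exact HL.zero_right y
          | add a c ha' hc' iha ihc =>
            have hm : Submodule.span L {z : V | HL.h z z = 0 ∧ HL.h z x = 0} ≤ HL.orth (L ∙ x) :=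
              Submodule.span_le.mpr fun d hd => HL.mem_orth_span.mpr fun e he => by
                rw [Set.mem_singleton_iff.mp he]; exact hd.2
            rw [HL.add_right, iha (hm ha'), ihc (hm hc'), add_zero]
          | smul e a ha' iha =>
            have hm : Submodule.span L {z : V | HL.h z z = 0 ∧ HL.h z x = 0} ≤ HL.orth (L ∙ x) :=
              Submodule.span_le.mpr fun d hd => HL.mem_orth_span.mpr fun e he => by
                rw [Set.mem_singleton_iff.mp he]; exact hd.2
            rw [HL.smul_right, iha (hm ha'), mul_zero]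
        rwa [HL.orth_orth] at hy2
    have hrep : ∀ a : L, ∃ c : L, c • x = g.1.1 (a • u) := fun a => by
      have := hspan (a / b)
      rw [smul_smul, div_mul_cancel₀ _ hb] at this
      exact Submodule.mem_span_singleton.mp this
    obtain ⟨c₁, hc₁⟩ := hrep 1
    rw [one_smul] at hc₁
    refine ⟨by rw [← hc₁, HL.smul_left, HL.smul_right, hbx, mul_zero, mul_zero], fun a => ?_⟩
    obtain ⟨c, hc⟩ := hrep a
    have hc₁0 : c₁ ≠ 0 := by
      rintro rfl
      rw [zero_smul] at hc₁
      exact hu0 (g.1.1.map_eq_zero_iff.mp hc₁.symm)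
    exact ⟨c / c₁, by rw [← hc₁, smul_smul, div_mul_cancel₀ _ hc₁0, hc]⟩
  obtain ⟨g, hg, hns⟩ := hO.exists_not_semi
  refine hns fun a => ?_
  let T : V →ₗ[F] V := g.1.1.toLinearMap ∘ₗ (Algebra.lsmul F F V a) ∘ₗ (g⁻¹).1.1.toLinearMap
  have hT : ∀ z, T (g.1.1 z) = g.1.1 (a • z) := fun z =>
    congrArg (fun w => g.1.1 (a • w)) (H.inv_apply_self g.1 z)
  have hTline : ∀ u, u ≠ 0 → HL.h u u = 0 → ∃ c : L, T u = c • u := by
    intro u hu0 hu
    obtain ⟨hi, -⟩ := hlines _ (K.inv_mem hg) u hu0 hu
    set v := (g⁻¹).1.1 u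
    obtain ⟨c, hc⟩ := (hlines g hg v (fun h => hu0 ((g⁻¹).1.1.map_eq_zero_iff.mp h)) hi).2 a
    refine ⟨c, ?_⟩
    show g.1.1 (a • v) = c • u
    rw [hc]
    exact congrArg (c • ·) (H.apply_inv_self g.1 u)
  have step : ∀ (u v : V) (b c : L), HL.h u u = 0 → HL.h v v = 0 → HL.h u v ≠ 0 → HL.h u v + HL.σ (HL.h u v) = 0 →
      T u = b • u → T v = c • v → b = c := by
    intro u v b c hu hv hne hsk hb hc
    have hvu : HL.h v u ≠ 0 := fun h => hne (HL.eq_zero_symm h)
    have huv : HL.h (u + v) (u + v) = 0 := by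
      rw [HL.add_left, HL.add_right, HL.add_right, hu, hv, HL.symm v u]; linear_combination hsk
    have huv0 : u + v ≠ 0 := fun h => hne (by
      have := congrArg (fun z => HL.h z v) h
      rwa [HL.add_left, hv, add_zero, HL.zero_left] at this)
    obtain ⟨e, he⟩ := hTline _ huv0 huv
    rw [map_add, hb, hc, smul_add] at he
    have h1 := congrArg (fun z => HL.h z v) he
    have h2 := congrArg (fun z => HL.h z u) he
    simp only [HL.add_left, HL.smul_left, hu, hv, mul_zero, add_zero, zero_add] at h1 h2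
    exact (mul_right_cancel₀ hne h1).trans (mul_right_cancel₀ hvu h2).symm
  obtain ⟨δ, hδ0, hδ⟩ := HL.conj.exists_skew
  obtain ⟨w, hw⟩ := H.conj.ne_id
  have scal : ∀ (u : V) (b : L), u ≠ 0 → HL.h u u = 0 → T u = b • u → ∀ s : L, T (s • u) = b • s • u := by
    intro u b hu0 hu hb
    obtain ⟨v₀, hv₀, hv₀v₀⟩ := HL.exists_hyperbolic hu0 hu
    set v := HL.σ δ • v₀ with hv
    have hvv : HL.h v v = 0 := by rw [hv, HL.smul_left, HL.smul_right, hv₀v₀, mul_zero, mul_zero]
    have huv : HL.h u v = δ := by rw [hv, HL.smul_right, hv₀, mul_one, HL.conj.invol]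
    obtain ⟨c, hc⟩ := hTline v (fun h => hδ0 (by rw [← huv, h, HL.zero_right])) hvv
    have hbc := step u v b c hu hvv (by rwa [huv]) (by rwa [huv]) hb hc
    have hfix : ∀ s, HL.σ s = s → T (s • u) = b • s • u := by
      intro s hs
      rcases eq_or_ne s 0 with rfl | hs0
      · rw [zero_smul, map_zero, smul_zero]
      have hsu : HL.h (s • u) (s • u) = 0 := by rw [HL.smul_left, HL.smul_right, hu, mul_zero, mul_zero]
      obtain ⟨e, he⟩ := hTline _ (smul_ne_zero hs0 hu0) hsu
      have := step (s • u) v e c hsu hvv (by rw [HL.smul_left, huv]; exact mul_ne_zero hs0 hδ0)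
        (by rw [HL.smul_left, huv, map_mul, hs, ← mul_add, hδ, mul_zero]) he hc
      rw [he, this, hbc]
    intro s
    obtain ⟨s₁, t, hs₁, ht, rfl⟩ := hO.exists_decomp hw s
    rw [add_smul, map_add, smul_assoc, map_smul T w, hfix s₁ hs₁, hfix t ht, smul_add, smul_comm w b]
  have same : ∀ (u v : V) (b c : L), u ≠ 0 → v ≠ 0 → HL.h u u = 0 → HL.h v v = 0 →
      T u = b • u → T v = c • v → b = c := by
    have nonorth : ∀ (u v : V) (b c : L), HL.h u u = 0 → HL.h v v = 0 → HL.h u v ≠ 0 →
        T u = b • u → T v = c • v → b = c := by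
      intro u v b c hu hv hne hb hc
      have hu0 : u ≠ 0 := fun h => hne (by rw [h, HL.zero_left])
      refine step ((δ / HL.h u v) • u) v b c ?_ hv ?_ ?_ (scal u b hu0 hu hb _) hc
      · rw [HL.smul_left, HL.smul_right, hu, mul_zero, mul_zero]
      · rw [HL.smul_left, div_mul_cancel₀ _ hne]; exact hδ0
      · rw [HL.smul_left, div_mul_cancel₀ _ hne]; exact hδ
    intro u v b c hu0 hv0 hu hv hb hc
    obtain ⟨r, hr, hur, hvr⟩ := HL.exists_isotropic_nonorth hu0 hv0 hu hv
    obtain ⟨e, he⟩ := hTline r (fun h => hur (by rw [h, HL.zero_right])) hr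
    exact (nonorth u r b e hu hr hur hb he).trans (nonorth v r c e hv hr hvr hc he).symm
  obtain ⟨u₀, hu₀, hu₀u₀⟩ := HL.exists_isotropic_of_two_le hd
  obtain ⟨μ, hμ⟩ := hTline u₀ hu₀ hu₀u₀
  have key : ∀ z : V, ∀ c : L, T (c • z) = μ • c • z := by
    intro z
    have hz : z ∈ Submodule.span L {x : V | HL.h x x = 0} := by
      rw [HL.span_isotropic hd]; exact Submodule.mem_top
    induction hz using Submodule.span_induction with
    | mem v hv =>
      intro c
      rcases eq_or_ne v 0 with rfl | hv0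
      · rw [smul_zero, map_zero, smul_zero]
      obtain ⟨b, hb⟩ := hTline v hv0 hv
      rw [scal v b hv0 hv hb c, same v u₀ b μ hv0 hu₀ hv hu₀u₀ hb hμ]
    | zero => intro c; rw [smul_zero, map_zero, smul_zero]
    | add x y _ _ ihx ihy => intro c; rw [smul_add, map_add, ihx, ihy, smul_add]
    | smul e x _ ih => intro c; rw [smul_smul, ih]
  exact ⟨μ, fun z => by rw [← hT, ← one_smul L (g.1.1 z), key, one_smul]⟩

end Cfsg.Lib.Classical.ExtFieldU
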