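import Cfsg.Agent.Classical.ExtFieldU.Centre
import Cfsg.Agent.Classical.Unitary.FrameBasic

/-! An overgroup with a non-semilinear element is the whole special isometry group. -/

set_option autoImplicit false
set_option linter.unusedSectionVars false

namespace Cfsg.Lib.Classical.ExtFieldU

open Module

variable {F L V : Type*} [Field F] [Finite F] [Field L] [Algebra F L] [FiniteDimensional F L]
  [AddCommGroup V] [Module F V] [Module L V] [IsScalarTower F L V] [FiniteDimensional F V]
  {H : HermSpace F V} {HL : HermSpace L V} {K : Subgroup H.SIsom}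

/-- Correcting the determinant orthogonally to a vector. -/
theorem exists_sisom_map [Finite L] [FiniteDimensional L V] {y y' w : V} (g : HL.Isom) (hg : g.1 y = y')
    (hw : HL.h w w = 1) (hwy : HL.h y' w = 0) : ∃ P : HL.SIsom, P.1.1 y = y' := by
  set z : (normUnits HL.σ).ker := ⟨HL.detHom g, HL.det_mem_norm_ker g⟩
  refine ⟨⟨HL.qrefl hw z⁻¹ * g, ?_⟩, ?_⟩
  · show HL.detHom (HL.qrefl hw z⁻¹ * g) = 1
    rw [map_mul, HL.det_qrefl]
    show (HL.detHom g)⁻¹ * HL.detHom g = 1
    exact inv_mul_cancel _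
  · show (HL.qrefl hw z⁻¹).1 (g.1 y) = y'
    rw [hg, HL.qrefl_orth hw _ hwy]

theorem pow_bound {q r : ℕ} (hq : 2 ≤ q) (hr : 5 ≤ r ∨ (3 ≤ r ∧ 3 ≤ q)) : 2 * r * (q + 1) < q ^ r + 1 := by
  rcases hr with hr | ⟨hr, hq3⟩
  · have h : ∀ k, 4 ≤ k → 3 * (k + 1) ≤ q ^ k := fun k hk => by
      induction k, hk using Nat.le_induction with
      | base => exact le_trans (by norm_num) (Nat.pow_le_pow_left hq 4)
      | succ k hk ih => rw [pow_succ]; nlinarith
    obtain ⟨k, rfl⟩ : ∃ k, r = k + 1 := ⟨r - 1, by omega⟩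
    have := h k (by omega)
    rw [pow_succ]
    nlinarith
  · have h : ∀ k, 2 ≤ k → 3 * (k + 1) ≤ q ^ k := fun k hk => by
      induction k, hk using Nat.le_induction with
      | base => exact le_trans (by norm_num) (Nat.pow_le_pow_left hq3 2)
      | succ k hk ih => rw [pow_succ]; nlinarith
    obtain ⟨k, rfl⟩ : ∃ k, r = k + 1 := ⟨r - 1, by omega⟩
    have := h k (by omega)
    rw [pow_succ]
    nlinarith

/-- A scalar of determinant one outside the fixed scalars times `F`. -/
theorem Over.exists_scalar (hO : Over H HL K) (hr : 5 ≤ finrank F L ∨ (3 ≤ finrank F L ∧ 3 ≤ H.q)) :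
    ∃ c : L, c * HL.σ c = 1 ∧ Algebra.norm F c = 1 ∧ ∀ a : F, algebraMap F L a ≠ c ^ 2 := by
  classical
  have : Finite L := Module.finite_of_finite F
  haveI := Fintype.ofFinite L
  haveI := Fintype.ofFinite F
  have hnorm : ∀ x, Algebra.norm F (HL.σ x) = H.σ (Algebra.norm F x) := fun x => by
    have h1 := Algebra.norm_eq_of_equiv_equiv (RingEquiv.ofBijective H.σ (Function.Involutive.bijective H.conj.invol))
      (RingEquiv.ofBijective HL.σ (Function.Involutive.bijective HL.conj.invol))
      (RingHom.ext fun a => (hO.σ_alg a).symm) x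
    rw [eq_comm, RingEquiv.symm_apply_eq] at h1
    exact h1
  set r := finrank F L
  obtain ⟨μ, hμ, hμF⟩ : ∃ μ : L, μ * HL.σ μ = 1 ∧ ∀ a : F, algebraMap F L a ≠ μ ^ (2 * r) := by
    by_contra! hall
    have hsub : HL.circle.image (fun μ => μ ^ (2 * r)) ⊆ H.circle.image (algebraMap F L) := by
      intro y hy
      obtain ⟨μ, hμ, rfl⟩ := Finset.mem_image.mp hy
      rw [HermSpace.mem_circle] at hμ
      obtain ⟨a, ha⟩ := hall μ hμ
      refine Finset.mem_image.mpr ⟨a, ?_, ha⟩
      rw [HermSpace.mem_circle]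
      refine (algebraMap F L).injective ?_
      rw [map_mul, map_one, ← hO.σ_alg, ha]
      exact HL.circle_pow hμ _
    have h1 : HL.circle.card ≤ (2 * r) * (HL.circle.image (fun μ => μ ^ (2 * r))).card := by
      refine Finset.card_le_mul_card_image _ _ fun y _ => ?_
      refine le_trans ?_ (le_trans (Multiset.toFinset_card_le _) (Polynomial.card_nthRoots (2 * r) y))
      refine Finset.card_le_card fun μ hμ => ?_
      rw [Multiset.mem_toFinset, Polynomial.mem_nthRoots (by omega)]
      exact (Finset.mem_filter.mp hμ).2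
    have h2 := le_trans h1 (Nat.mul_le_mul le_rfl (le_trans (Finset.card_le_card hsub) Finset.card_image_le))
    rw [HL.card_circle, H.card_circle, hO.HL_q] at h2
    exact absurd h2 (not_le.mpr (pow_bound H.two_le_q hr))
  have hμ0 : μ ≠ 0 := HL.circle_ne_zero hμ
  set ν := Algebra.norm F μ with hν
  have hν0 : ν ≠ 0 := Algebra.norm_ne_zero_iff.mpr hμ0
  have hνc : ν * H.σ ν = 1 := by rw [hν, ← hnorm, ← map_mul, hμ, map_one]
  refine ⟨μ ^ r / algebraMap F L ν, ?_, ?_, fun a ha => hμF (a * ν ^ 2) ?_⟩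
  · rw [map_div₀, hO.σ_alg, div_mul_div_comm, HL.circle_pow hμ, ← map_mul, hνc, map_one, div_one]
  · rw [div_eq_mul_inv, map_mul, map_pow, ← map_inv₀, Algebra.norm_algebraMap, inv_pow, ← hν,
      mul_inv_cancel₀ (pow_ne_zero _ hν0)]
  · rw [map_mul, ha, map_pow, div_pow, div_mul_cancel₀ _ (pow_ne_zero _ ((map_ne_zero _).mpr hν0)), ← pow_mul,
      mul_comm r 2]

/-- Centres on a line which are not fixed multiples of each other. -/
theorem Over.exists_moved_centre (hO : Over H HL K) {x : V} (hx0 : x ≠ 0) (hx : HL.h x x = 0)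
    (hxc : x ∈ H.uCentres K) :
    ∃ d : L, (∀ a : F, algebraMap F L a * HL.σ d ≠ d) ∧ d • x ∈ H.uCentres K := by
  have : Finite L := Module.finite_of_finite F
  have : FiniteDimensional L V := FiniteDimensional.right F L V
  rcases hO.rank with ⟨h2, h5⟩ | h4
  · obtain ⟨c, hc, hN, hcF⟩ := hO.exists_scalar h5
    have hc0 : c ≠ 0 := fun h => by rw [h, zero_mul] at hc; exact zero_ne_one hc
    let P : V ≃ₗ[F] V := (LinearEquiv.smulOfUnit (Units.mk0 c hc0) : V ≃ₗ[L] V).restrictScalars F
    have hP : ∀ z, P z = c • z := fun z => rfl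
    have hPi : P ∈ H.Isom := fun y z => by
      rw [hP, hP, hO.trace, hO.trace, HL.smul_left, HL.smul_right, ← mul_assoc, hc, one_mul]
    have hdet : (⟨P, hPi⟩ : H.Isom) ∈ H.SIsom := H.mem_SIsom.mpr (Units.ext (by
      rw [LinearEquiv.coe_det, Units.val_one]
      show LinearMap.det ((c • LinearMap.id : V →ₗ[L] V).restrictScalars F) = 1
      rw [LinearMap.det_restrictScalars, LinearMap.det_smul, LinearMap.det_id, mul_one, map_pow, hN, one_pow]))
    refine ⟨c, fun a ha => hcF a ?_, ?_⟩
    · have h1 := congrArg (· * c) ha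
      simp only [mul_assoc] at h1
      rw [mul_comm (HL.σ c), hc, mul_one] at h1
      rw [h1, pow_two]
    · exact HermSpace.uCentres_map hxc (g := (⟨⟨P, hPi⟩, hdet⟩ : H.SIsom))
        (hO.semi_mem _ fun a => ⟨a, fun z => by
          show P (a • z) = a • P z
          rw [hP, hP, smul_comm]⟩)
  · obtain ⟨t, ht, htF⟩ := hO.exists_fixed_notMem
    obtain ⟨w, hw⟩ := H.conj.ne_id
    set d := t + algebraMap F L w with hd
    have hdF : ∀ a : F, algebraMap F L a * HL.σ d ≠ d := by
      intro a ha
      rw [hd, map_add, ht, hO.σ_alg] at ha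
      rcases eq_or_ne a 1 with rfl | ha1
      · rw [map_one, one_mul] at ha
        exact hw ((algebraMap F L).injective (add_left_cancel ha))
      · refine htF ((w - a * H.σ w) / (a - 1)) ?_
        have hne : algebraMap F L a - 1 ≠ 0 := by
          rw [← map_one (algebraMap F L), ← map_sub]; exact (map_ne_zero _).mpr (sub_ne_zero.mpr ha1)
        rw [map_div₀, map_sub, map_sub, map_mul, map_one, div_eq_iff hne]
        linear_combination -ha
    have hd0 : d ≠ 0 := fun h => hdF 0 (by rw [map_zero, zero_mul, h])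
    have hdx : HL.h (d • x) (d • x) = 0 := by rw [HL.smul_left, HL.smul_right, hx, mul_zero, mul_zero]
    obtain ⟨g, hg⟩ := HL.transitive_isotropic hx0 (smul_ne_zero hd0 hx0) hx hdx
    obtain ⟨v, hv, hvd⟩ := HL.exists_anisotropic_orth_singleton (by omega) (d • x)
    obtain ⟨P, hP⟩ := exists_sisom_map g hg hv (HL.eq_zero_symm hvd)
    refine ⟨d, hdF, ?_⟩
    have := HermSpace.uCentres_map hxc (hO.lift_mem P)
    rwa [lift_apply, hP] at this

/-- The overgroup is everything. -/
theorem Over.eq_top (hO : Over H HL K) : K = ⊤ := by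
  classical
  have : Finite L := Module.finite_of_finite F
  have : FiniteDimensional L V := FiniteDimensional.right F L V
  have hd := hO.two_le
  obtain ⟨θ, hθ⟩ := HL.conj.exists_trace_one
  -- one anisotropic centre
  obtain ⟨y₁, hy₁, hn₁⟩ : ∃ y, y ∈ H.uCentres K ∧ HL.h y y ≠ 0 := by
    obtain ⟨x, hx0, hx, hxc⟩ := hO.exists_centre
    obtain ⟨d, hdF, hdx⟩ := hO.exists_moved_centre hx0 hx hxc
    obtain ⟨v, hv, hvv⟩ := HL.exists_hyperbolic hx0 hx
    have hd0 : d ≠ 0 := fun h => hdF 0 (by rw [map_zero, zero_mul, h])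
    obtain ⟨a, ha, had⟩ : ∃ a, a + HL.σ a = 0 ∧ Algebra.trace F L (a * d) ≠ 0 := by
      by_contra! h
      exact hd0 (hO.eq_zero_of_skew h)
    have hwc : x + a • v ∈ H.uCentres K := by
      have := HermSpace.uCentres_map hxc (hO.linT_mem hvv ha)
      rwa [Over.linT_apply, hv, mul_one] at this
    have hdw : HL.h (d • x) (x + a • v) = d * HL.σ a := by
      rw [HL.smul_left, HL.add_right, HL.smul_right, hx, hv, mul_one, zero_add]
    have hne : H.h (d • x) (x + a • v) ≠ 0 := by
      rw [hO.trace, hdw, eq_neg_of_add_eq_zero_right ha, mul_neg, map_neg, neg_ne_zero, mul_comm]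
      exact had
    obtain ⟨l, hl0, hl⟩ := H.conj.exists_skew
    set e := l / H.h (d • x) (x + a • v) with he
    have he0 : e ≠ 0 := div_ne_zero hl0 hne
    have heh : e * H.h (d • x) (x + a • v) = l := div_mul_cancel₀ _ hne
    have hiso : H.h (e • d • x + (1 : F) • (x + a • v)) (e • d • x + (1 : F) • (x + a • v)) = 0 := by
      have hgen : ∀ A B : V, H.h A A = 0 → H.h B B = 0 → e * H.h A B = l → H.h (e • A + B) (e • A + B) = 0 := by
        intro A B hA hB hAB
        simp only [H.add_left, H.add_right, H.smul_left, H.smul_right, hA, hB]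
        have h2 : H.σ e * H.h B A = H.σ l := by rw [← hAB, map_mul, ← H.symm]
        linear_combination hAB + h2 + hl
      rw [one_smul]
      exact hgen _ _ (HermSpace.uCentres_iso hdx) (HermSpace.uCentres_iso hwc) heh
    refine ⟨_, HermSpace.uCentres_span hdx hwc hne hiso, ?_⟩
    have hvx : HL.h v x = 1 := by rw [HL.symm, hv, map_one]
    rw [one_smul, ← algebraMap_smul L e, smul_smul]
    set D := algebraMap F L e * d with hD
    have hG : HL.h (D • x + (x + a • v)) (D • x + (x + a • v)) = a * (HL.σ D - D) := by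
      simp only [HL.add_left, HL.add_right, HL.smul_left, HL.smul_right, hx, hv, hvv, hvx]
      rw [eq_neg_of_add_eq_zero_right ha]
      ring
    rw [hG]
    refine mul_ne_zero (fun h => had (by rw [h, zero_mul, map_zero])) (sub_ne_zero.mpr fun h => ?_)
    rw [hD, map_mul, hO.σ_alg] at h
    refine hdF (H.σ e / e) ?_
    rw [map_div₀, div_mul_eq_mul_div, h, mul_div_cancel_left₀ _ ((map_ne_zero _).mpr he0)]
  set n := HL.h y₁ y₁ with hn
  have htn : Algebra.trace F L n = 0 := by rw [hn, ← hO.trace]; exact HermSpace.uCentres_iso hy₁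
  -- all vectors of that norm
  have hnorm : ∀ y, HL.h y y = n → y ∈ H.uCentres K := by
    intro y hy
    obtain ⟨g, hg⟩ := HL.transitive_anisotropic (v := y₁) hn₁ (v' := y) hy
    have hW := HL.nondegOn_span_singleton (v := y) (by rw [hy]; exact hn₁)
    have : Nontrivial (HL.orth (Submodule.span L ({y} : Set V))) := Module.nontrivial_of_finrank_pos (R := L) (by
      rw [HL.finrank_orth, finrank_span_singleton (fun h => hn₁ (by rw [← hy, h, HL.zero_left]))]
      omega)
    obtain ⟨w, hw⟩ := (HL.restrict _ (HL.nondegOn_orth hW)).exists_norm_one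
    obtain ⟨P, hP⟩ := exists_sisom_map (w := (w : V)) g hg hw
      (HL.eq_zero_symm (w.2 y (Submodule.mem_span_singleton_self y)))
    have := HermSpace.uCentres_map hy₁ (hO.lift_mem P)
    rwa [lift_apply, hP] at this
  obtain ⟨a, ha, hta⟩ : ∃ a, a + HL.σ a = 0 ∧ Algebra.trace F L a ≠ 0 := by
    by_contra! h
    refine one_ne_zero (α := L) (hO.eq_zero_of_skew fun a ha => ?_)
    rw [mul_one]; exact h a ha
  have ha0 : a ≠ 0 := fun h => hta (by rw [h, map_zero])
  -- isotropic vectors over `L`
  have hiso : ∀ x, HL.h x x = 0 → x ∈ H.uCentres K := by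
    intro x hx
    rcases eq_or_ne x 0 with rfl | hx0
    · exact H.uCentres_zero K
    obtain ⟨v, hv, hvv⟩ := HL.exists_hyperbolic hx0 hx
    have hvx : HL.h v x = 1 := by rw [HL.symm, hv, map_one]
    set y := (-a) • v + (n * θ / a) • x with hy
    have hxy : HL.h x y = a := by
      rw [hy, HL.add_right, HL.smul_right, HL.smul_right, hv, hx, map_neg, eq_neg_of_add_eq_zero_right ha,
        neg_neg, mul_one, mul_zero, add_zero]
    have hyx : HL.h y x = -a := by rw [HL.symm, hxy, eq_neg_of_add_eq_zero_right ha]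
    have hnf : HL.σ n = n := HL.self_fixed y₁
    have hyy : HL.h y y = n := by
      simp only [hy, HL.add_left, HL.add_right, HL.smul_left, HL.smul_right, hx, hv, hvv, hvx, map_neg, map_div₀,
        map_mul, hnf, eq_neg_of_add_eq_zero_right ha]
      field_simp
      linear_combination a ^ 2 * n * hθ
    have hzz : HL.h (x - y) (x - y) = n := by
      simp only [HL.sub_left, HL.sub_right, hx, hxy, hyx, hyy]; ring
    have hne : H.h y (x - y) ≠ 0 := by
      rw [hO.trace, HL.sub_right, hyx, hyy, map_sub, map_neg, htn, sub_zero, neg_ne_zero]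
      exact hta
    have := HermSpace.uCentres_span (hnorm y hyy) (hnorm _ hzz) hne (a := 1) (b := 1)
      (by rw [one_smul, one_smul, add_sub_cancel, hO.trace, hx, map_zero])
    rwa [one_smul, one_smul, add_sub_cancel] at this
  refine HermSpace.eq_top_of_uCentres (Or.inl hO.four_le) fun y hy => ?_
  by_cases hy0 : HL.h y y = 0
  · exact hiso y hy0
  set n' := HL.h y y with hn'
  have hn'f : HL.σ n' = n' := HL.self_fixed y
  obtain ⟨c, hc, htc⟩ : ∃ c, c + HL.σ c = n' ∧ Algebra.trace F L c ≠ 0 := by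
    by_cases h : Algebra.trace F L (n' * θ) = 0
    · exact ⟨n' * θ + a, by rw [map_add, map_mul, hn'f]; linear_combination n' * hθ + ha,
        by rwa [map_add, h, zero_add]⟩
    · exact ⟨n' * θ, by rw [map_mul, hn'f]; linear_combination n' * hθ, h⟩
  have hyne : y ≠ 0 := fun h => hy0 (by rw [hn', h, HL.zero_left])
  obtain ⟨r, hr, hyr⟩ := HL.exists_isotropic_nonorth_to hd hyne
  have hry : HL.h r y ≠ 0 := fun h => hyr (HL.eq_zero_symm h)
  set x := (c / HL.h r y) • r with hx
  have hxx : HL.h x x = 0 := by rw [hx, HL.smul_left, HL.smul_right, hr, mul_zero, mul_zero]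
  have hxy : HL.h x y = c := by rw [hx, HL.smul_left, div_mul_cancel₀ _ hry]
  have hzz : HL.h (y - x) (y - x) = 0 := by
    simp only [HL.sub_left, HL.sub_right, hxx, hxy, HL.symm y x]
    linear_combination -hc
  have hne : H.h x (y - x) ≠ 0 := by rw [hO.trace, HL.sub_right, hxx, hxy, sub_zero]; exact htc
  have := HermSpace.uCentres_span (hiso x hxx) (hiso _ hzz) hne (a := 1) (b := 1)
    (by rw [one_smul, one_smul, add_sub_cancel]; exact hy)
  rwa [one_smul, one_smul, add_sub_cancel] at this

end Cfsg.Lib.Classical.ExtFieldU
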