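import Cfsg.Agent.Classical.ExtFieldU.Lines

/-! A twist of least rank has rank one. -/

set_option autoImplicit false
set_option linter.unusedSectionVars false

namespace Cfsg.Lib.Classical.ExtFieldU

open Module

/-- The number of isotropic vectors. -/
theorem count_isotropic {F V : Type*} [Field F] [Finite F] [AddCommGroup V] [Module F V] [FiniteDimensional F V]
    (H : HermSpace F V) (hd : 1 ≤ finrank F V) :
    (H.q : ℤ) * Nat.card {v : V // H.h v v = 0} = (H.q : ℤ) ^ (2 * finrank F V) +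
      (-1) ^ finrank F V * ((H.q : ℤ) - 1) * (H.q : ℤ) ^ finrank F V := by
  classical
  have : Finite V := Module.finite_of_finite F
  haveI := Fintype.ofFinite V
  haveI := Fintype.ofFinite (fixedField H.σ)
  have hscale : ∀ c : fixedField H.σ, c ≠ 0 →
      Nat.card {v : V // H.h v v = (c : F)} = Nat.card {v : V // H.h v v = 1} := by
    intro c hc
    obtain ⟨b, hb⟩ := H.conj.norm_surjective (mem_fixedField.mp c.2)
    have hc' : (c : F) ≠ 0 := fun h => hc (Subtype.ext h)
    have hb0 : b ≠ 0 := fun h => hc' (by rw [← hb, h, zero_mul])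
    refine (Nat.card_congr (Equiv.subtypeEquiv (LinearEquiv.smulOfUnit (Units.mk0 b hb0) : V ≃ₗ[F] V).toEquiv
      fun v => ?_)).symm
    show H.h v v = 1 ↔ H.h (b • v) (b • v) = c
    rw [H.smul_left, H.smul_right, ← mul_assoc, hb, mul_eq_left₀ hc']
  have htot : Nat.card V = Nat.card {v : V // H.h v v = 0} + (H.q - 1) * Nat.card {v : V // H.h v v = 1} := by
    let f : V → fixedField H.σ := fun v => ⟨H.h v v, mem_fixedField.mpr (H.self_fixed v)⟩
    have hfib : ∀ c : fixedField H.σ, Nat.card {v : V // f v = c} = Nat.card {v : V // H.h v v = (c : F)} :=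
      fun c => Nat.card_congr (Equiv.subtypeEquivRight fun v => Subtype.ext_iff)
    rw [← Nat.card_congr (Equiv.sigmaFiberEquiv f), Nat.card_sigma,
      ← Finset.add_sum_erase _ _ (Finset.mem_univ (0 : fixedField H.σ)),
      Finset.sum_congr rfl (fun c hc => (hfib c).trans (hscale c (Finset.ne_of_mem_erase hc))),
      Finset.sum_const, Finset.card_erase_of_mem (Finset.mem_univ _), Finset.card_univ, smul_eq_mul, hfib,
      ← Nat.card_eq_fintype_card]
    rfl
  rw [Module.natCard_eq_pow_finrank (K := F) (V := V), H.card_field, ← pow_mul, H.card_normOne, cardNormOne] at htot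
  have h1 := congrArg (fun k : ℕ => (k : ℤ)) htot
  obtain ⟨k, hk⟩ : ∃ k, finrank F V = k + 1 := ⟨finrank F V - 1, by omega⟩
  rw [hk] at h1 ⊢
  have hq : 1 ≤ H.q := le_trans one_le_two H.two_le_q
  have hqn : 1 ≤ H.q ^ (k + 1) := Nat.one_le_pow _ _ hq
  simp only [Nat.add_sub_cancel, Nat.cast_pow, Nat.cast_add, Nat.cast_mul, Nat.cast_sub hq, Nat.cast_one,
    apply_ite (Nat.cast : ℕ → ℤ), Nat.cast_sub hqn] at h1
  by_cases he : Even (k + 1)
  · rw [if_pos he] at h1
    rw [he.neg_one_pow]
    linear_combination -(H.q : ℤ) * h1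
  · rw [if_neg he] at h1
    rw [(Nat.not_even_iff_odd.mp he).neg_one_pow]
    linear_combination -(H.q : ℤ) * h1

variable {F L V : Type*} [Field F] [Finite F] [Field L] [Algebra F L] [FiniteDimensional F L]
  [AddCommGroup V] [Module F V] [Module L V] [IsScalarTower F L V] [FiniteDimensional F V]
  {H : HermSpace F V} {HL : HermSpace L V} {K : Subgroup H.SIsom}

variable (HL K) in
/-- An element twisting an isotropic line in rank one. -/
structure Rank1 (g : H.SIsom) (x : V) (p : L) (κ : F) : Prop where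
  mem : g ∈ K
  iso : HL.h x x = 0
  x_ne : x ≠ 0
  fix : g.1.1 x = x
  p_ne : p ≠ 0
  p_trace : Algebra.trace F L (HL.σ p) = 0
  κ_ne : κ ≠ 0
  κ_skew : κ + H.σ κ = 0
  fixed : ∀ c : L, Algebra.trace F L (HL.σ p * c) = 0 → g.1.1 (c • x) = c • x
  phi_eq : ∀ c : L, HL.h ((g⁻¹).1.1 (c • x)) x = Algebra.trace F L (HL.σ p * c) • κ • p

/-- The conjugate of a transvection along the twisted line. -/
theorem Over.conj_linT (hO : Over H HL K) (g : H.SIsom) {u : V} (hu : HL.h u u = 0) {b : L}
    (hb : b + HL.σ b = 0) (c : L) :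
    (g * hO.linT hu hb * g⁻¹).1.1 (c • g.1.1 u) = c • g.1.1 u + g.1.1 ((b * phi HL g u c) • u) := by
  show g.1.1 ((hO.linT hu hb).1.1 ((g⁻¹).1.1 (c • g.1.1 u))) = _
  rw [Over.linT_apply, map_add, ← phi_apply]
  congr 1
  exact H.apply_inv_self g.1 _

theorem Over.exists_rank1 (hO : Over H HL K) : ∃ g x p κ, Rank1 HL K g x p κ := by
  classical
  have : Finite L := Module.finite_of_finite F
  have : FiniteDimensional L V := FiniteDimensional.right F L V
  let P : ℕ → Prop := fun n => ∃ g ∈ K, ∃ u, HL.h u u = 0 ∧ HL.h (g.1.1 u) (g.1.1 u) = 0 ∧ phi HL g u ≠ 0 ∧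
    finrank F (LinearMap.range (phi HL g u)) = n
  have hP : ∃ n, P n := by
    obtain ⟨g, hg, u, hu, hgu, hne⟩ := hO.exists_phi_ne
    exact ⟨_, g, hg, u, hu, hgu, hne, rfl⟩
  obtain ⟨g, hg, u, hu, hgu, hne, hrk⟩ := Nat.find_spec hP
  set Φ := LinearMap.range (phi HL g u) with hΦ
  set d := finrank F Φ with hd
  set x := g.1.1 u with hx
  have hu0 : u ≠ 0 := fun h => hne (by rw [h, phi_zero])
  have hx0 : x ≠ 0 := fun h => hu0 (g.1.1.map_eq_zero_iff.mp h)
  -- the conjugated transvections
  have hk : ∀ (b : L) (hb : b + HL.σ b = 0), (g * hO.linT hu hb * g⁻¹).1.1 x = x := fun b hb => by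
    have h := hO.conj_linT g hu hb 1
    rwa [one_smul, phi_one g hu, mul_zero, zero_smul, map_zero, add_zero] at h
  have hkinv : ∀ (b : L) (hb : b + HL.σ b = 0), ((g * hO.linT hu hb * g⁻¹)⁻¹).1.1 x = x := fun b hb => by
    conv_lhs => rw [← hk b hb]
    exact H.inv_apply_self _ x
  have hphi : ∀ (b : L) (hb : b + HL.σ b = 0),
      phi HL (g * hO.linT hu hb * g⁻¹)⁻¹ x = Emap HL g u ∘ₗ LinearMap.mulLeft F b ∘ₗ phi HL g u := fun b hb =>
    LinearMap.ext fun c => by
      rw [phi_apply, hkinv b hb, inv_inv, hO.conj_linT g hu hb c, HL.add_left, HL.smul_left, hgu, mul_zero,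
        zero_add]
      rfl
  have hmin : ∀ b : L, b + HL.σ b = 0 → ∀ v ∈ Φ, v ≠ 0 → Emap HL g u (b * v) = 0 →
      ∀ w ∈ Φ, Emap HL g u (b * w) = 0 := by
    intro b hb v hv hv0 hEv
    set f := (Emap HL g u ∘ₗ LinearMap.mulLeft F b).domRestrict Φ with hf
    by_contra! hc
    obtain ⟨w, hw, hEw⟩ := hc
    have hr : LinearMap.range f = LinearMap.range (phi HL (g * hO.linT hu hb * g⁻¹)⁻¹ x) := by
      rw [hphi b hb]
      ext z
      constructor
      · rintro ⟨⟨y, c, rfl⟩, rfl⟩; exact ⟨c, rfl⟩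
      · rintro ⟨c, rfl⟩; exact ⟨⟨_, c, rfl⟩, rfl⟩
    have hne' : phi HL (g * hO.linT hu hb * g⁻¹)⁻¹ x ≠ 0 := fun h => by
      obtain ⟨c, rfl⟩ := hw
      rw [hphi b hb] at h
      exact hEw (LinearMap.congr_fun h c)
    have hle : Nat.find hP ≤ finrank F (LinearMap.range f) := by
      rw [hr]
      exact Nat.find_min' hP ⟨_, K.inv_mem (K.mul_mem (K.mul_mem hg (hO.linT_mem hu hb)) (K.inv_mem hg)), x,
        hgu, by rw [hkinv b hb]; exact hgu, hne', rfl⟩
    have hker : 0 < finrank F (LinearMap.ker f) := by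
      refine Nat.pos_of_ne_zero fun h0 => hv0 ?_
      have hm : (⟨v, hv⟩ : Φ) ∈ LinearMap.ker f := hEv
      rw [Submodule.finrank_eq_zero.mp h0, Submodule.mem_bot] at hm
      exact congrArg Subtype.val hm
    have := f.finrank_range_add_finrank_ker
    omega
  -- the sets of bad scalars
  have hE0 : ∀ (y : L), Emap HL g u y = 0 ↔ ∀ w ∈ Φ, Algebra.trace F L (y * HL.σ w) = 0 := fun y => by
    constructor
    · rintro h _ ⟨c, rfl⟩
      rw [← hO.trace_E, h, mul_zero, map_zero]
    · intro h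
      refine eq_of_trace (F := F) fun c => ?_
      rw [mul_zero, map_zero, ← HL.conj.invol c, hO.trace_E]
      exact h _ ⟨_, rfl⟩
  obtain ⟨l, hl0, hl⟩ := H.conj.exists_skew
  let Bad : L → Prop := fun s => ∀ v ∈ Φ, ∀ w ∈ Φ, Algebra.trace F L (s * v * HL.σ w) = 0
  have hbad : ∀ s, HL.σ s = s → ∀ v ∈ Φ, v ≠ 0 → (∀ w ∈ Φ, Algebra.trace F L (s * v * HL.σ w) = 0) → Bad s := by
    intro s hs v hv hv0 h v' hv'
    have h1 := hmin (l • s) (hO.smul_skew hl hs) v hv hv0
      ((hE0 _).mpr fun w hw => by rw [mul_assoc, trace_smul_mul, ← mul_assoc, h w hw, mul_zero]) v' hv'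
    intro w hw
    have h2 := (hE0 _).mp h1 w hw
    rw [mul_assoc, trace_smul_mul, ← mul_assoc, mul_eq_zero] at h2
    exact h2.resolve_left hl0
  have hd1 : 1 ≤ d := by
    rw [Nat.one_le_iff_ne_zero, hd, Ne, Submodule.finrank_eq_zero, hΦ, LinearMap.range_eq_bot]
    exact hne
  have hdr : d ≤ finrank F L := Submodule.finrank_le _
  -- double counting
  haveI := Fintype.ofFinite (fixedField HL.σ)
  haveI := Fintype.ofFinite Φ
  set N := (Finset.univ : Finset (fixedField HL.σ)).filter (fun s : fixedField HL.σ => Bad (s : L)) with hN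
  set V' := (Finset.univ : Finset Φ).filter (fun v => v ≠ 0) with hV'
  let R : fixedField HL.σ → Φ → Prop := fun s v => Algebra.trace F L ((s : L) * v * HL.σ v) = 0
  have hq : (H.q : ℤ) ≠ 0 := by have := H.two_le_q; omega
  have hV'card : (V'.card : ℤ) = (H.q : ℤ) ^ (2 * d) - 1 := by
    have h1 : V'.card + 1 = H.q ^ (2 * d) := by
      rw [hV', Finset.filter_ne' Finset.univ (0 : Φ), Finset.card_erase_add_one (Finset.mem_univ _),
        Finset.card_univ, ← Nat.card_eq_fintype_card, Module.natCard_eq_pow_finrank (K := F), H.card_field,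
        ← pow_mul, hd]
    have h2 := congrArg (fun k : ℕ => (k : ℤ)) h1
    push_cast at h2
    omega
  have hrow : ∀ v ∈ V', H.q * (Finset.univ.filter fun s => R s v).card = H.q ^ finrank F L := by
    intro v hv
    have hv0 : (v : L) ≠ 0 := fun h => (Finset.mem_filter.mp hv).2 (Subtype.ext h)
    set n := (v : L) * HL.σ v with hn
    have hn0 : n ≠ 0 := mul_ne_zero hv0 ((map_ne_zero _).mpr hv0)
    have hnf : HL.σ n = n := HL.conj.norm_mem _
    let f : fixedField HL.σ →+ fixedField H.σ :=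
      { toFun := fun s => ⟨Algebra.trace F L ((s : L) * n), mem_fixedField.mpr (by
          rw [← hO.trace_τ, map_mul, mem_fixedField.mp s.2, hnf])⟩
        map_zero' := Subtype.ext (by simp)
        map_add' := fun a b => Subtype.ext (by simp [add_mul]) }
    have hsurj : Function.Surjective f := by
      obtain ⟨s, hs, hs0⟩ : ∃ s, HL.σ s = s ∧ Algebra.trace F L (s * n) ≠ 0 := by
        by_contra! h
        exact hn0 (hO.eq_zero_of_fixed h)
      intro y
      set t := Algebra.trace F L (s * n) with ht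
      have htf : H.σ t = t := by rw [ht, ← hO.trace_τ, map_mul, hs, hnf]
      refine ⟨⟨((y : F) / t) • s, mem_fixedField.mpr (by
        rw [hO.σ_smul, hs, map_div₀, htf, mem_fixedField.mp y.2])⟩, Subtype.ext ?_⟩
      show Algebra.trace F L (((y : F) / t) • s * n) = y
      rw [trace_smul_mul, div_mul_cancel₀ _ hs0]
    have h1 := f.ker.card_mul_index
    rw [AddSubgroup.index_ker, AddMonoidHom.range_eq_top.mpr hsurj, AddSubgroup.card_top] at h1
    have h2 : Nat.card f.ker = (Finset.univ.filter fun s => R s v).card := by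
      rw [← Fintype.card_subtype, ← Nat.card_eq_fintype_card]
      refine Nat.card_congr (Equiv.subtypeEquivRight fun s => ?_)
      show f s = 0 ↔ Algebra.trace F L ((s : L) * v * HL.σ v) = 0
      rw [mul_assoc]
      exact Subtype.ext_iff
    rw [h2, mul_comm] at h1
    exact h1.trans hO.HL_q
  have hcol : ∀ s ∉ N, (H.q : ℤ) * ((V'.filter fun v => R s v).card : ℤ) =
      (H.q : ℤ) ^ (2 * d) + (-1) ^ d * ((H.q : ℤ) - 1) * (H.q : ℤ) ^ d - H.q := by
    intro s hs
    have hsB : ¬ Bad (s : L) := fun h => hs (Finset.mem_filter.mpr ⟨Finset.mem_univ _, h⟩)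
    have hsym : ∀ v w : L, Algebra.trace F L ((s : L) * v * HL.σ w) =
        H.σ (Algebra.trace F L ((s : L) * w * HL.σ v)) := fun v w => by
      rw [← hO.trace_τ]
      congr 1
      rw [map_mul, map_mul, mem_fixedField.mp s.2, HL.conj.invol]
      ring
    let HΦ : HermSpace F Φ :=
      { σ := H.σ
        h := fun v w => Algebra.trace F L ((s : L) * v * HL.σ w)
        conj := H.conj
        add_left := fun a b c => by simp only [Submodule.coe_add, mul_add, add_mul, map_add]
        smul_left := fun c a b => by simp only [Submodule.coe_smul, mul_smul_comm, trace_smul_mul]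
        symm := fun a b => hsym a b
        nondeg := fun v h => by
          by_contra hv
          refine hsB (hbad _ (mem_fixedField.mp s.2) v v.2 (fun e => hv (Subtype.ext e)) fun w hw => ?_)
          rw [hsym]
          exact (map_eq_zero _).mpr (h ⟨w, hw⟩) }
    have hc := count_isotropic HΦ hd1
    have h2 : Nat.card {v : Φ // HΦ.h v v = 0} = (V'.filter fun v => R s v).card + 1 := by
      rw [Nat.card_eq_fintype_card, Fintype.card_subtype,
        show V'.filter (fun v => R s v) = (Finset.univ.filter fun v => HΦ.h v v = 0).erase 0 by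
          ext v; simp [hV', R, HΦ],
        Finset.card_erase_add_one (by simp [HΦ.zero_left])]
    rw [h2] at hc
    push_cast at hc
    change (H.q : ℤ) * _ = (H.q : ℤ) ^ (2 * d) + (-1) ^ d * ((H.q : ℤ) - 1) * (H.q : ℤ) ^ d at hc
    linear_combination hc
  have hcount := Finset.sum_card_bipartiteAbove_eq_sum_card_bipartiteBelow R
    (s := (Finset.univ : Finset (fixedField HL.σ))) (t := V')
  simp only [Finset.bipartiteAbove, Finset.bipartiteBelow] at hcount
  have hNcard : (N.card : ℤ) * (H.q : ℤ) ^ d = (H.q : ℤ) ^ finrank F L := by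
    have h1 := congrArg (fun k : ℕ => (H.q : ℤ) * (k : ℤ)) hcount
    simp only [Nat.cast_sum, Finset.mul_sum] at h1
    have hr' : ∀ v ∈ V', (H.q : ℤ) * ((Finset.univ.filter fun s => R s v).card : ℤ) = (H.q : ℤ) ^ finrank F L :=
      fun v hv => by exact_mod_cast hrow v hv
    rw [Finset.sum_congr rfl hr', Finset.sum_const, nsmul_eq_mul,
      ← Finset.sum_filter_add_sum_filter_not Finset.univ (fun s : fixedField HL.σ => Bad (s : L)), ← hN] at h1
    have hin : ∀ s ∈ N, (H.q : ℤ) * ((V'.filter fun v => R s v).card : ℤ) = (H.q : ℤ) * V'.card := fun s hs => by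
      rw [Finset.filter_true_of_mem fun (v : Φ) _ => (Finset.mem_filter.mp hs).2 v v.2 v v.2]
    have hout : ∀ s ∈ Finset.univ.filter (fun s : fixedField HL.σ => ¬ Bad (s : L)),
        (H.q : ℤ) * ((V'.filter fun v => R s v).card : ℤ) =
          (H.q : ℤ) ^ (2 * d) + (-1) ^ d * ((H.q : ℤ) - 1) * (H.q : ℤ) ^ d - H.q := fun s hs =>
      hcol s fun h => (Finset.mem_filter.mp hs).2 (Finset.mem_filter.mp h).2
    rw [Finset.sum_congr rfl hin, Finset.sum_const, nsmul_eq_mul,
      Finset.sum_congr rfl hout, Finset.sum_const, nsmul_eq_mul, hV'card] at h1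
    have hcompl : ((Finset.univ.filter fun s : fixedField HL.σ => ¬ Bad (s : L)).card : ℤ) =
        (H.q : ℤ) ^ finrank F L - N.card := by
      have h := Finset.card_filter_add_card_filter_not (s := (Finset.univ : Finset (fixedField HL.σ)))
        (fun s => Bad (s : L))
      rw [← hN, Finset.card_univ, ← Nat.card_eq_fintype_card] at h
      have h' : N.card + _ = HL.q := h
      rw [hO.HL_q] at h'
      have h'' := congrArg (fun k : ℕ => (k : ℤ)) h'
      push_cast at h''
      linarith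
    rw [hcompl] at h1
    have hQ : (2 : ℤ) ≤ (H.q : ℤ) ^ d := by
      exact_mod_cast le_trans H.two_le_q (Nat.le_self_pow (by omega) _)
    have hR : (0 : ℤ) < (H.q : ℤ) ^ finrank F L := by
      have := H.two_le_q; positivity
    have hq1 : (H.q : ℤ) - 1 ≠ 0 := by have := H.two_le_q; omega
    set R' := (H.q : ℤ) ^ finrank F L
    rw [mul_comm 2 d, pow_mul] at h1
    set Q := (H.q : ℤ) ^ d
    rcases Nat.even_or_odd d with he | ho
    · rw [he.neg_one_pow] at h1
      have h3 : (Q - 1) * (R' + N.card * Q) = 0 := by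
        refine mul_left_cancel₀ hq1 ?_
        linear_combination h1
      have : 0 < R' + N.card * Q := by positivity
      rcases mul_eq_zero.mp h3 with h | h <;> omega
    · rw [ho.neg_one_pow] at h1
      have h3 : (Q + 1) * (R' - N.card * Q) = 0 := by
        refine mul_left_cancel₀ hq1 ?_
        linear_combination -h1
      rcases mul_eq_zero.mp h3 with h | h <;> linarith
  -- the orthogonal spaces do not depend on the vector
  obtain ⟨w, hw⟩ := H.conj.ne_id
  let Ψ : Submodule F L :=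
    { carrier := {t | HL.σ t ∈ Φ}
      zero_mem' := by rw [Set.mem_setOf_eq, map_zero]; exact Φ.zero_mem
      add_mem' := fun {a b} ha hb => by rw [Set.mem_setOf_eq, map_add]; exact Φ.add_mem ha hb
      smul_mem' := fun c a ha => by rw [Set.mem_setOf_eq, hO.σ_smul]; exact Φ.smul_mem _ ha }
  have hΨd : finrank F Ψ = d := by
    have e : Nat.card Ψ = Nat.card Φ := Nat.card_congr
      { toFun := fun t => ⟨HL.σ t, t.2⟩
        invFun := fun t => ⟨HL.σ t, show HL.σ (HL.σ t) ∈ Φ by rw [HL.conj.invol]; exact t.2⟩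
        left_inv := fun t => Subtype.ext (HL.conj.invol _)
        right_inv := fun t => Subtype.ext (HL.conj.invol _) }
    rw [Module.natCard_eq_pow_finrank (K := F) (V := Ψ), Module.natCard_eq_pow_finrank (K := F) (V := Φ)] at e
    exact Nat.pow_right_injective Finite.one_lt_card e
  let B := Algebra.traceForm F L
  have hBn : B.Nondegenerate := traceForm_nondegenerate F L
  have hBr : B.IsRefl := (Algebra.traceForm_isSymm F).isRefl
  let A : L → Submodule F L := fun v => B.orthogonal (Ψ.map (LinearMap.mulLeft F v))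
  let j : {s // s ∈ N} × {s // s ∈ N} → L := fun st => ((st.1.1 : fixedField HL.σ) : L) + w • ((st.2.1 : fixedField HL.σ) : L)
  have hj : Function.Injective j := by
    rintro ⟨⟨⟨s, hs⟩, hsN⟩, ⟨⟨t, ht⟩, htN⟩⟩ ⟨⟨⟨s', hs'⟩, hsN'⟩, ⟨⟨t', ht'⟩, htN'⟩⟩ h
    have h1 : s + w • t = s' + w • t' := h
    have h2 := congrArg HL.σ h1
    rw [map_add, map_add, hO.σ_smul, hO.σ_smul, mem_fixedField.mp hs, mem_fixedField.mp ht,
      mem_fixedField.mp hs', mem_fixedField.mp ht'] at h2
    have h3 : (w - H.σ w) • (t - t') = 0 := by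
      rw [sub_smul, smul_sub, smul_sub]
      linear_combination h1 - h2
    rw [smul_eq_zero, sub_eq_zero, sub_eq_zero] at h3
    obtain rfl := h3.resolve_left (fun e => hw e.symm)
    obtain rfl : s = s' := add_right_cancel h1
    rfl
  have hA : ∀ v ∈ Φ, v ≠ 0 → (A v : Set L) = Set.range j := by
    intro v hv hv0
    symm
    have hmap : finrank F (Ψ.map (LinearMap.mulLeft F v)) = d := by
      rw [← hΨd]
      exact (Submodule.equivMapOfInjective _ (mul_right_injective₀ hv0) Ψ).finrank_eq.symm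
    have hsub : Set.range j ⊆ (A v : Set L) := by
      rintro _ ⟨⟨⟨s, hsN⟩, ⟨t, htN⟩⟩, rfl⟩
      intro n hn
      obtain ⟨y, hy, rfl⟩ := Submodule.mem_map.mp hn
      have e1 := (Finset.mem_filter.mp hsN).2 v hv (HL.σ y) hy
      have e2 := (Finset.mem_filter.mp htN).2 v hv (HL.σ y) hy
      rw [HL.conj.invol] at e1 e2
      show Algebra.trace F L (v * y * ((s : L) + w • (t : L))) = 0
      rw [mul_add, map_add, mul_smul_comm, map_smul, mul_comm (v * y) (s : L), mul_comm (v * y) (t : L),
        ← mul_assoc, ← mul_assoc, e1, e2, smul_zero, add_zero]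
    refine Set.eq_of_subset_of_ncard_le hsub (le_of_eq ?_) (Set.toFinite _)
    rw [Set.ncard_range_of_injective hj, ← Nat.card_coe_set_eq]
    have h1 : Nat.card (A v) = (H.q ^ 2) ^ (finrank F L - d) := by
      rw [Module.natCard_eq_pow_finrank (K := F), H.card_field, LinearMap.BilinForm.finrank_orthogonal hBn, hmap]
    refine h1.trans ?_
    rw [Nat.card_prod, Nat.card_eq_fintype_card, Fintype.card_coe]
    have h2 : (N.card : ℤ) = (H.q : ℤ) ^ (finrank F L - d) := by
      refine mul_right_cancel₀ (pow_ne_zero d hq) ?_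
      rw [hNcard, ← pow_add, Nat.sub_add_cancel hdr]
    rw [show N.card = H.q ^ (finrank F L - d) by exact_mod_cast h2, ← pow_mul, ← pow_add]
    ring_nf
  have hW : ∀ v ∈ Φ, ∀ v' ∈ Φ, v ≠ 0 → v' ≠ 0 →
      Ψ.map (LinearMap.mulLeft F v) = Ψ.map (LinearMap.mulLeft F v') := by
    intro v hv v' hv' hv0 hv0'
    have h : A v = A v' := SetLike.coe_injective ((hA v hv hv0).trans (hA v' hv' hv0').symm)
    have := congrArg B.orthogonal h
    rwa [LinearMap.BilinForm.orthogonal_orthogonal hBn hBr, LinearMap.BilinForm.orthogonal_orthogonal hBn hBr] at this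
  -- rank one
  obtain ⟨ξ, hξ, hξ0⟩ := Submodule.exists_mem_ne_zero_of_ne_bot (p := Φ) (by
    rw [hΦ, Ne, LinearMap.range_eq_bot]; exact hne)
  have hone : ∀ v ∈ Φ, ∃ c : F, v = c • ξ := by
    let S : Subalgebra F L :=
      { carrier := {t | ∀ y ∈ Ψ, t * y ∈ Ψ}
        mul_mem' := fun {a b} ha hb y hy => by rw [mul_assoc]; exact ha _ (hb _ hy)
        add_mem' := fun {a b} ha hb y hy => by rw [add_mul]; exact Ψ.add_mem (ha _ hy) (hb _ hy)
        algebraMap_mem' := fun c y hy => by rw [← Algebra.smul_def]; exact Ψ.smul_mem c hy }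
    have hS : ∀ v ∈ Φ, v / ξ ∈ S := by
      intro v hv y hy
      rcases eq_or_ne v 0 with rfl | hv0
      · rw [zero_div, zero_mul]; exact Ψ.zero_mem
      obtain ⟨z, hz, hzy⟩ := Submodule.mem_map.mp ((hW v hv ξ hξ hv0 hξ0).le (Submodule.mem_map_of_mem hy))
      have e : v / ξ * y = z := by
        rw [div_mul_eq_mul_div, div_eq_iff hξ0, mul_comm z]; exact hzy.symm
      rw [e]; exact hz
    have := Subalgebra.isSimpleOrder_of_finrank_prime F L hO.prime
    rcases eq_bot_or_eq_top S with hb | ht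
    · intro v hv
      obtain ⟨c, hc⟩ := Algebra.mem_bot.mp (hb ▸ hS v hv)
      exact ⟨c, by rw [Algebra.smul_def, hc, div_mul_cancel₀ _ hξ0]⟩
    · exfalso
      have hσξ : HL.σ ξ ∈ Ψ := show HL.σ (HL.σ ξ) ∈ Φ by rw [HL.conj.invol]; exact hξ
      have hΨtop : Ψ = ⊤ := Submodule.eq_top_iff'.mpr fun z => by
        have := (show z / HL.σ ξ ∈ S by rw [ht]; trivial) _ hσξ
        rwa [div_mul_cancel₀ _ ((map_ne_zero _).mpr hξ0)] at this
      have hsurj : Function.Surjective (phi HL g u) := fun z => by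
        have : HL.σ z ∈ Ψ := by rw [hΨtop]; trivial
        change HL.σ (HL.σ z) ∈ Φ at this
        rwa [HL.conj.invol] at this
      exact one_ne_zero ((LinearMap.injective_iff_surjective.mpr hsurj) ((phi_one g hu).trans (map_zero _).symm))
  obtain ⟨fd, hfd⟩ := Module.Projective.exists_dual_ne_zero F hξ0
  set θ : L →ₗ[F] F := (fd ξ)⁻¹ • (fd ∘ₗ phi HL g u) with hθ
  have hphiθ : ∀ c, phi HL g u c = θ c • ξ := fun c => by
    obtain ⟨a, ha⟩ := hone _ ⟨c, rfl⟩
    rw [hθ, LinearMap.smul_apply, LinearMap.comp_apply, ha, map_smul, smul_eq_mul, smul_eq_mul, mul_comm a,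
      inv_mul_cancel_left₀ hfd]
  obtain ⟨ζ, hζ⟩ := exists_trace_dual θ
  have hEform : ∀ a, Emap HL g u a = Algebra.trace F L (a * HL.σ ξ) • HL.σ ζ := fun a => by
    refine eq_of_trace (F := F) fun c => ?_
    conv_lhs => rw [← HL.conj.invol c]
    rw [hO.trace_E, hphiθ, hO.σ_smul, mul_smul_comm, map_smul, mul_smul_comm, map_smul, hζ, ← hO.trace_τ, map_mul,
      HL.conj.invol, mul_comm (HL.σ ζ) c, smul_eq_mul, smul_eq_mul, mul_comm]
  obtain ⟨b, hb, hb0⟩ : ∃ b, b + HL.σ b = 0 ∧ Algebra.trace F L (b * (ξ * HL.σ ξ)) ≠ 0 := by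
    by_contra! h
    exact mul_ne_zero hξ0 ((map_ne_zero _).mpr hξ0) (hO.eq_zero_of_skew h)
  refine ⟨(g * hO.linT hu hb * g⁻¹)⁻¹, x, HL.σ ζ, Algebra.trace F L (b * (ξ * HL.σ ξ)),
    ⟨K.inv_mem (K.mul_mem (K.mul_mem hg (hO.linT_mem hu hb)) (K.inv_mem hg)), hgu, hx0, hkinv b hb, ?_, ?_, hb0, ?_,
      ?_, ?_⟩⟩
  · refine (map_ne_zero _).mpr fun h => hne ?_
    exact LinearMap.ext fun c => by rw [hphiθ, hζ, h, zero_mul, map_zero, zero_smul, LinearMap.zero_apply]
  · have h1 := hphiθ 1
    rw [phi_one g hu, hζ, mul_one, eq_comm, smul_eq_zero] at h1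
    rw [HL.conj.invol]
    exact h1.resolve_right hξ0
  · rw [← hO.trace_τ, map_mul HL.σ b, HL.conj.norm_mem, ← map_add, ← add_mul, hb, zero_mul, map_zero]
  · intro c hc
    rw [HL.conj.invol, ← hζ] at hc
    have h := hO.conj_linT g hu hb c
    rw [hphiθ, hc, zero_smul, mul_zero, zero_smul, map_zero, add_zero] at h
    conv_lhs => rw [← h]
    exact H.inv_apply_self _ _
  · intro c
    have h := LinearMap.congr_fun (hphi b hb) c
    rw [phi_apply, hkinv b hb] at h
    rw [h, HL.conj.invol, ← hζ]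
    show Emap HL g u (b * phi HL g u c) = _
    rw [hphiθ, mul_smul_comm, map_smul, hEform, mul_assoc]

end Cfsg.Lib.Classical.ExtFieldU
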