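import Mathlib
import Cfsg.Agent.Classical.Unitary.Root

/-! Hermitian spaces over an extension field inside those over the base field. -/

set_option autoImplicit false
set_option linter.unusedSectionVars false

namespace Cfsg.Lib.Classical.ExtFieldU

open Module

variable {F L V : Type*} [Field F] [Finite F] [Field L] [Algebra F L] [FiniteDimensional F L]
  [AddCommGroup V] [Module F V] [Module L V] [IsScalarTower F L V] [FiniteDimensional F V]

variable (L) in
/-- `g` is semilinear over `L`. -/
def Semi (g : V ≃ₗ[F] V) : Prop := ∀ a : L, ∃ b : L, ∀ z : V, g (a • z) = b • g z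

theorem eq_of_trace {x y : L} (h : ∀ c : L, Algebra.trace F L (c * x) = Algebra.trace F L (c * y)) : x = y := by
  have hn := (traceForm_nondegenerate F L).2 (x - y) fun c => by
    rw [Algebra.traceForm_apply, mul_sub, map_sub, h, sub_self]
  exact sub_eq_zero.mp hn

/-- Every functional is a trace. -/
theorem exists_trace_dual (θ : L →ₗ[F] F) : ∃ ζ : L, ∀ c, θ c = Algebra.trace F L (ζ * c) := by
  obtain ⟨ζ, hζ⟩ := ((Algebra.traceForm F L).toDual (traceForm_nondegenerate F L)).surjective θ
  exact ⟨ζ, fun c => by rw [← hζ]; rfl⟩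

theorem trace_algebraMap_mul (a : F) (x : L) :
    Algebra.trace F L (algebraMap F L a * x) = a * Algebra.trace F L x := by
  rw [← Algebra.smul_def, map_smul, smul_eq_mul]

theorem trace_smul_mul (a : F) (x y : L) :
    Algebra.trace F L ((a • x) * y) = a * Algebra.trace F L (x * y) := by
  rw [smul_mul_assoc, map_smul, smul_eq_mul]

/-- An involution of `L` extending one of `F` commutes with the trace. -/
theorem trace_conj {σ : F →+* F} {τ : L →+* L} (hσ : ∀ a, σ (σ a) = a) (hτ : ∀ x, τ (τ x) = x)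
    (h : ∀ a, τ (algebraMap F L a) = algebraMap F L (σ a)) (x : L) :
    Algebra.trace F L (τ x) = σ (Algebra.trace F L x) := by
  let e₁ : F ≃+* F := RingEquiv.ofBijective σ (Function.Involutive.bijective hσ)
  let e₂ : L ≃+* L := RingEquiv.ofBijective τ (Function.Involutive.bijective hτ)
  have he : RingHom.comp (algebraMap F L) (e₁ : F →+* F) = RingHom.comp (e₂ : L →+* L) (algebraMap F L) :=
    RingHom.ext fun a => (h a).symm
  have h1 := Algebra.trace_eq_of_equiv_equiv e₁ e₂ he x
  rw [eq_comm, RingEquiv.symm_apply_eq] at h1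
  exact h1

variable {H : HermSpace F V} {HL : HermSpace L V}

/-- An isometry of determinant one over `L`, over `F`. -/
noncomputable def lift (h : ∀ u v, H.h u v = Algebra.trace F L (HL.h u v)) (g : HL.SIsom) : H.SIsom :=
  ⟨⟨g.1.1.restrictScalars F, fun x y => by
      show H.h (g.1.1 x) (g.1.1 y) = H.h x y
      rw [h, h, HL.map_form]⟩, H.mem_SIsom.mpr (Units.ext (by
    have hg := congrArg Units.val (HL.mem_SIsom.mp g.2)
    rw [LinearEquiv.coe_det, Units.val_one] at hg ⊢
    show LinearMap.det ((g.1.1 : V →ₗ[L] V).restrictScalars F) = 1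
    rw [LinearMap.det_restrictScalars, hg, map_one]))⟩

theorem lift_apply (h : ∀ u v, H.h u v = Algebra.trace F L (HL.h u v)) (g : HL.SIsom) (z : V) :
    (lift h g).1.1 z = g.1.1 z := rfl

/-- The hypotheses on a subgroup of the special isometries of `H`. -/
structure Over (H : HermSpace F V) (HL : HermSpace L V) (K : Subgroup H.SIsom) : Prop where
  prime : (finrank F L).Prime
  odd : Odd (finrank F L)
  σ_alg : ∀ a : F, HL.σ (algebraMap F L a) = algebraMap F L (H.σ a)
  trace : ∀ u v, H.h u v = Algebra.trace F L (HL.h u v)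
  semi_mem : ∀ g : H.SIsom, Semi L g.1.1 → g ∈ K
  exists_not_semi : ∃ g ∈ K, ¬ Semi L g.1.1
  rank : (finrank L V = 2 ∧ (5 ≤ finrank F L ∨ (3 ≤ finrank F L ∧ 3 ≤ H.q))) ∨ 4 ≤ finrank L V

variable {K : Subgroup H.SIsom}

theorem Over.trace_τ (hO : Over H HL K) (x : L) :
    Algebra.trace F L (HL.σ x) = H.σ (Algebra.trace F L x) :=
  trace_conj H.conj.invol HL.conj.invol hO.σ_alg x

theorem Over.σ_smul (hO : Over H HL K) (a : F) (x : L) : HL.σ (a • x) = H.σ a • HL.σ x := by
  rw [Algebra.smul_def, map_mul, hO.σ_alg, ← Algebra.smul_def]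

theorem Over.two_le (hO : Over H HL K) : 2 ≤ finrank L V := by
  rcases hO.rank with ⟨h, -⟩ | h <;> omega

theorem Over.four_le (hO : Over H HL K) : 4 ≤ finrank F V := by
  have h := finrank_mul_finrank F L V
  have h1 := hO.two_le
  have h2 := hO.prime.two_le
  nlinarith

theorem Over.lift_mem (hO : Over H HL K) (g : HL.SIsom) : lift hO.trace g ∈ K :=
  hO.semi_mem _ fun a => ⟨a, fun z => by rw [lift_apply, lift_apply, map_smul]⟩

/-- The transvection over `L`. -/
noncomputable def Over.linT (hO : Over H HL K) {u : V} (hu : HL.h u u = 0) {a : L} (ha : a + HL.σ a = 0) :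
    H.SIsom := lift hO.trace (HL.sT hu ha)

theorem Over.linT_mem (hO : Over H HL K) {u : V} (hu : HL.h u u = 0) {a : L} (ha : a + HL.σ a = 0) :
    hO.linT hu ha ∈ K := hO.lift_mem _

theorem Over.linT_apply (hO : Over H HL K) {u : V} (hu : HL.h u u = 0) {a : L} (ha : a + HL.σ a = 0) (z : V) :
    (hO.linT hu ha).1.1 z = z + (a * HL.h z u) • u := by
  rw [Over.linT, lift_apply, HermSpace.sT_apply]

variable (HL) in
/-- `φ c = G(g⁻¹(c g u), u)`. -/
noncomputable def phi (g : H.SIsom) (u : V) : L →ₗ[F] L :=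
  (HL.lin u).restrictScalars F ∘ₗ (g⁻¹).1.1.toLinearMap ∘ₗ
    (LinearMap.toSpanSingleton L V (g.1.1 u)).restrictScalars F

theorem phi_apply (g : H.SIsom) (u : V) (c : L) :
    phi HL g u c = HL.h ((g⁻¹).1.1 (c • g.1.1 u)) u := rfl

variable (HL) in
/-- `E a = G(g (a u), g u)`. -/
noncomputable def Emap (g : H.SIsom) (u : V) : L →ₗ[F] L :=
  (HL.lin (g.1.1 u)).restrictScalars F ∘ₗ g.1.1.toLinearMap ∘ₗ
    (LinearMap.toSpanSingleton L V u).restrictScalars F

theorem Emap_apply (g : H.SIsom) (u : V) (a : L) :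
    Emap HL g u a = HL.h (g.1.1 (a • u)) (g.1.1 u) := rfl

theorem h_adj (g : H.SIsom) (y z : V) : H.h (g.1.1 y) z = H.h y ((g⁻¹).1.1 z) := by
  rw [← H.map_form g.1 y]
  exact congrArg _ (H.apply_inv_self g.1 z).symm

/-- The two maps are adjoint. -/
theorem Over.trace_E (hO : Over H HL K) (g : H.SIsom) (u : V) (a c : L) :
    Algebra.trace F L (HL.σ c * Emap HL g u a) = Algebra.trace F L (a * HL.σ (phi HL g u c)) := by
  rw [Emap_apply, ← HL.smul_right, ← hO.trace, h_adj, hO.trace, HL.smul_left, phi_apply, ← HL.symm]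

theorem phi_one (g : H.SIsom) {u : V} (hu : HL.h u u = 0) : phi HL g u 1 = 0 := by
  rw [phi_apply, one_smul]
  exact (congrArg (fun z => HL.h z u) (H.inv_apply_self g.1 u)).trans hu

theorem phi_zero (g : H.SIsom) : phi HL g 0 = 0 :=
  LinearMap.ext fun c => by rw [phi_apply, map_zero, smul_zero, map_zero, HL.zero_left, LinearMap.zero_apply]

/-- The trace pairing with the skew scalars is nondegenerate. -/
theorem Over.eq_zero_of_skew (hO : Over H HL K) {N : L}
    (h : ∀ a, a + HL.σ a = 0 → Algebra.trace F L (a * N) = 0) : N = 0 := by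
  obtain ⟨w, hw⟩ := H.conj.ne_id
  refine eq_of_trace (F := F) fun b => ?_
  have hb : ∀ b : L, Algebra.trace F L (b * N) = Algebra.trace F L (HL.σ b * N) := fun b => by
    have := h (b - HL.σ b) (by rw [map_sub, HL.conj.invol]; ring)
    rwa [sub_mul, map_sub, sub_eq_zero] at this
  have h2 := hb (w • b)
  rw [hO.σ_smul, trace_smul_mul, trace_smul_mul, ← hb] at h2
  rw [mul_zero, map_zero]
  by_contra hne
  exact hw (mul_right_cancel₀ hne h2).symm

theorem Over.skew_div (hO : Over H HL K) {l : F} (hl : l + H.σ l = 0) {a : L} (ha : a + HL.σ a = 0) :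
    HL.σ (a / algebraMap F L l) = a / algebraMap F L l := by
  rw [map_div₀, hO.σ_alg, eq_neg_of_add_eq_zero_right hl, map_neg, eq_neg_of_add_eq_zero_right ha, neg_div_neg_eq]

theorem Over.smul_skew (hO : Over H HL K) {l : F} (hl : l + H.σ l = 0) {s : L} (hs : HL.σ s = s) :
    l • s + HL.σ (l • s) = 0 := by
  rw [hO.σ_smul, hs, ← add_smul, hl, zero_smul]

/-- The trace pairing with the fixed scalars is nondegenerate. -/
theorem Over.eq_zero_of_fixed (hO : Over H HL K) {N : L}
    (h : ∀ s, HL.σ s = s → Algebra.trace F L (s * N) = 0) : N = 0 := by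
  obtain ⟨l, hl0, hl⟩ := H.conj.exists_skew
  refine hO.eq_zero_of_skew fun a ha => ?_
  have h1 := h _ (hO.skew_div hl ha)
  have hne : algebraMap F L l ≠ 0 := (map_ne_zero _).mpr hl0
  rw [show a * N = algebraMap F L l * (a / algebraMap F L l * N) by rw [← mul_assoc, mul_div_cancel₀ _ hne],
    trace_algebraMap_mul, h1, mul_zero]

/-- The fixed scalars and one scalar moved by `σ` span `L`. -/
theorem Over.exists_decomp (hO : Over H HL K) {w : F} (hw : H.σ w ≠ w) (b : L) :
    ∃ s t : L, HL.σ s = s ∧ HL.σ t = t ∧ b = s + w • t := by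
  have hne : algebraMap F L w - algebraMap F L (H.σ w) ≠ 0 :=
    sub_ne_zero.mpr fun e => hw ((algebraMap F L).injective e).symm
  set t := (b - HL.σ b) / (algebraMap F L w - algebraMap F L (H.σ w)) with ht
  have htf : HL.σ t = t := by
    rw [ht, map_div₀, map_sub, map_sub, HL.conj.invol, hO.σ_alg, hO.σ_alg, H.conj.invol, ← neg_sub b,
      ← neg_sub (algebraMap F L w), neg_div_neg_eq]
  refine ⟨b - w • t, t, ?_, htf, (sub_add_cancel _ _).symm⟩
  rw [map_sub, hO.σ_smul, htf, Algebra.smul_def, Algebra.smul_def]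
  have := div_mul_cancel₀ (b - HL.σ b) hne
  rw [← ht] at this
  linear_combination this

/-- Some fixed scalar lies outside `F`. -/
theorem Over.exists_fixed_notMem (hO : Over H HL K) : ∃ t : L, HL.σ t = t ∧ ∀ a : F, algebraMap F L a ≠ t := by
  obtain ⟨w, hw⟩ := H.conj.ne_id
  by_contra! hh
  have htop : (F ∙ (1 : L)) = ⊤ := Submodule.eq_top_iff'.mpr fun b => by
    obtain ⟨s, t, hs, ht, rfl⟩ := hO.exists_decomp hw b
    obtain ⟨a, rfl⟩ := hh s hs
    obtain ⟨c, rfl⟩ := hh t ht
    exact Submodule.mem_span_singleton.mpr ⟨a + w * c, by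
      rw [← Algebra.algebraMap_eq_smul_one, map_add, map_mul, Algebra.smul_def]⟩
  have h1 : finrank F (F ∙ (1 : L)) = 1 := finrank_span_singleton one_ne_zero
  rw [htop, finrank_top] at h1
  exact hO.prime.ne_one h1

theorem Over.HL_q (hO : Over H HL K) : HL.q = H.q ^ finrank F L := by
  have : Finite L := Module.finite_of_finite F
  have h := HL.card_field
  rw [Module.natCard_eq_pow_finrank (K := F), H.card_field, ← pow_mul, mul_comm 2, pow_mul] at h
  exact (Nat.pow_left_injective two_ne_zero h).symm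

/-- Some transvection is not semilinear. -/
theorem exists_sisom_not_semi (hr : 2 ≤ finrank F L) (htr : ∀ u v, H.h u v = Algebra.trace F L (HL.h u v))
    {x : V} (hx0 : x ≠ 0) (hx : HL.h x x = 0) : ∃ g : H.SIsom, ¬ Semi L g.1.1 := by
  have : Finite L := Module.finite_of_finite F
  have : FiniteDimensional L V := FiniteDimensional.right F L V
  obtain ⟨l, hl0, hl⟩ := H.conj.exists_skew
  refine ⟨H.sT (v := x) (by rw [htr, hx, map_zero]) hl, fun hS => ?_⟩
  obtain ⟨u, hu⟩ := HL.exists_partner hx0
  have hux : HL.h u x = 1 := by rw [HL.symm, hu, map_one]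
  have key : ∀ a t : L, Algebra.trace F L (a * t) • (1 : L) = Algebra.trace F L t • a := by
    intro a t
    obtain ⟨b, hb⟩ := hS a
    have e1 := hb x
    rw [HermSpace.sT_apply, HermSpace.sT_apply, htr, htr, HL.smul_left, hx, mul_zero, map_zero, mul_zero, zero_smul,
      add_zero, add_zero] at e1
    obtain rfl : a = b := smul_left_injective L hx0 e1
    have e2 := hb (t • u)
    rw [HermSpace.sT_apply, HermSpace.sT_apply, htr, htr, HL.smul_left, HL.smul_left, hux, mul_one, smul_add,
      add_right_inj] at e2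
    have e3 : (algebraMap F L (l * Algebra.trace F L (a * t))) • x =
        (a * algebraMap F L (l * Algebra.trace F L t)) • x := by
      rw [algebraMap_smul, e2, mul_smul a, algebraMap_smul]
    have e4 := smul_left_injective L hx0 e3
    rw [map_mul (algebraMap F L), map_mul (algebraMap F L)] at e4
    refine mul_left_cancel₀ ((map_ne_zero (algebraMap F L)).mpr hl0) ?_
    rw [← Algebra.algebraMap_eq_smul_one, Algebra.smul_def]
    linear_combination e4
  obtain ⟨t, ht⟩ := Algebra.trace_surjective F L (1 : F)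
  have htop : (F ∙ (1 : L)) = ⊤ := Submodule.eq_top_iff'.mpr fun a =>
    Submodule.mem_span_singleton.mpr ⟨Algebra.trace F L (a * t), by rw [key, ht, one_smul]⟩
  have h1 : finrank F (F ∙ (1 : L)) = 1 := finrank_span_singleton one_ne_zero
  rw [htop, finrank_top] at h1
  omega

end Cfsg.Lib.Classical.ExtFieldU
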